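import Mathlib
import Cfsg.Prelude.Def_IsolatedElements
import Cfsg.Prelude.Def_CaseTheorems
import Cfsg.Prelude.Def_Local
import Cfsg.Agent.Lib.Components.GenFitting
import Cfsg.Agent.Lib.Components.PElement
import Cfsg.Agent.Lib.Components.Quasisimple
import Cfsg.Agent.Lib.CoprimeOmega.Basic
import Cfsg.Agent.S0071

/-!
Isolated elements of odd prime order in groups of `p`-rank at most two: the generalized Fitting
subgroup is simple.
-/

set_option autoImplicit false

namespace Cfsg.Agent.Lib.IsolatedOdd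

open Subgroup

variable {G : Type*} [Group G] {p : ℕ}

theorem isolated_conj {x : G} (hiso : Cfsg.IsIsolated x) (a : G) :
    Cfsg.IsIsolated (a * x * a⁻¹) := by
  intro g hg
  have h1 : Commute x ((a⁻¹ * g * a) * x * (a⁻¹ * g * a)⁻¹) := by
    have h2 := (Commute.conj_iff a⁻¹).mpr hg
    convert h2 using 1 <;> group
  have h3 := hiso _ h1
  calc g * (a * x * a⁻¹) * g⁻¹ = a * ((a⁻¹ * g * a) * x * (a⁻¹ * g * a)⁻¹) * a⁻¹ := by group
    _ = a * x * a⁻¹ := by rw [h3]

/-- An isolated element is central in every `p`-subgroup containing it. -/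
theorem commute_of_isPGroup [Finite G] [Fact p.Prime] {x : G} (hiso : Cfsg.IsIsolated x)
    {P : Subgroup G} (hP : IsPGroup p P) (hx : x ∈ P) : ∀ a ∈ P, Commute a x := by
  let C : Subgroup P := (centralizer ({x} : Set G)).subgroupOf P
  have hC : ∀ a : P, a ∈ C ↔ Commute (a : G) x := fun a => by
    simp only [C, mem_subgroupOf, mem_centralizer_singleton_iff]
    rfl
  suffices C = ⊤ by
    intro a ha
    exact (hC ⟨a, ha⟩).1 (this ▸ mem_top _)
  by_contra hne
  haveI := hP.isNilpotent
  have hlt := Group.normalizerCondition_of_isNilpotent (G := P) C (lt_top_iff_ne_top.2 hne)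
  obtain ⟨n, hn, hnC⟩ := SetLike.exists_of_lt hlt
  have h1 : n * ⟨x, hx⟩ * n⁻¹ ∈ C :=
    (mem_normalizer_iff.1 hn ⟨x, hx⟩).1 ((hC _).2 (Commute.refl x))
  have h2 : Commute x ((n : G) * x * (n : G)⁻¹) := ((hC _).1 h1).symm
  have h3 := hiso _ h2
  exact hnC ((hC n).2 (mul_inv_eq_iff_eq_mul.1 h3))

/-- With `p`-rank at most two, the elements of order `p` commuting with two independent commuting
such elements are products of powers of these. -/
theorem exists_pow_mul_pow [Finite G] [hp : Fact p.Prime] (hrank : Cfsg.PRankLE p 2 G) {a b e : G}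
    (ha : a ^ p = 1) (hb : b ^ p = 1) (he : e ^ p = 1) (hab : Commute a b) (hea : Commute e a)
    (heb : Commute e b) (ha1 : a ≠ 1) (hind : b ∉ zpowers a) :
    ∃ i j : ℤ, e = a ^ i * b ^ j := by
  set A : Subgroup G := closure {a, b, e} with hA
  have hc : ∀ u ∈ ({a, b, e} : Set G), ∀ v ∈ ({a, b, e} : Set G), u * v = v * u := by
    rintro u (rfl | rfl | rfl) v (rfl | rfl | rfl)
    all_goals first
      | rfl
      | exact hab.eq
      | exact hab.symm.eq
      | exact hea.eq
      | exact hea.symm.eq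
      | exact heb.eq
      | exact heb.symm.eq
  have hAc : IsMulCommutative A := isMulCommutative_closure hc
  have hcomm : ∀ u ∈ A, ∀ v ∈ A, u * v = v * u := fun u hu v hv =>
    congrArg Subtype.val (hAc.is_comm.comm ⟨u, hu⟩ ⟨v, hv⟩)
  have hexp : ∀ u ∈ A, u ^ p = 1 := fun u hu => by
    induction hu using closure_induction with
    | mem u hu => rcases hu with rfl | rfl | rfl <;> assumption
    | one => simp
    | mul u v hu hv h1 h2 =>
      rw [(show Commute u v from hcomm u hu v hv).mul_pow, h1, h2, one_mul]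
    | inv u _ h1 => simp [h1]
  let B : Subgroup G :=
    { carrier := {u | ∃ i j : ℤ, u = a ^ i * b ^ j}
      one_mem' := ⟨0, 0, by simp⟩
      mul_mem' := by
        rintro _ _ ⟨i, j, rfl⟩ ⟨k, l, rfl⟩
        refine ⟨i + k, j + l, ?_⟩
        calc a ^ i * b ^ j * (a ^ k * b ^ l) = a ^ i * (b ^ j * a ^ k) * b ^ l := by group
          _ = a ^ i * (a ^ k * b ^ j) * b ^ l := by rw [(hab.symm.zpow_zpow j k).eq]
          _ = a ^ (i + k) * b ^ (j + l) := by group
      inv_mem' := by
        rintro _ ⟨i, j, rfl⟩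
        refine ⟨-i, -j, ?_⟩
        rw [mul_inv_rev, zpow_neg, zpow_neg]
        exact ((hab.symm.zpow_zpow j i).inv_inv).eq }
  have haA : a ∈ A := subset_closure (by simp)
  have hbA : b ∈ A := subset_closure (by simp)
  have hBA : B ≤ A := by
    rintro _ ⟨i, j, rfl⟩
    exact mul_mem (zpow_mem haA i) (zpow_mem hbA j)
  have haB : zpowers a < B := by
    refine lt_of_le_of_ne (zpowers_le.2 ⟨1, 0, by simp⟩) fun h => hind ?_
    rw [h]
    exact ⟨0, 1, by simp⟩
  have hpa : Nat.card (zpowers a) = p := by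
    rw [Nat.card_zpowers]; exact orderOf_eq_prime ha ha1
  have hBp : IsPGroup p B := fun u => ⟨1, Subtype.ext (by
    rw [pow_one]; push_cast; exact hexp _ (hBA u.2))⟩
  obtain ⟨n, hn⟩ := hBp.exists_card_eq
  have h2 : p ^ 2 ≤ Nat.card B := by
    have hlt : Nat.card (zpowers a) < Nat.card B := Set.Finite.card_lt_card (Set.toFinite _) haB
    rw [hpa, hn] at hlt
    rw [hn]
    refine Nat.pow_le_pow_right hp.out.pos ?_
    by_contra hlt'
    have : p ^ n ≤ p ^ 1 := Nat.pow_le_pow_right hp.out.pos (by omega)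
    simp at this
    omega
  have hAB : B = A := eq_of_le_of_card_ge hBA ((hrank A hAc hexp).trans h2)
  obtain ⟨i, j, hij⟩ : e ∈ B := hAB ▸ subset_closure (by simp)
  exact ⟨i, j, hij⟩

/-- A nontrivial perfect group is not controlled trivially on the elements of order `p` of a
Sylow subgroup. -/
theorem not_perfect_of_fix [Finite G] [hp : Fact p.Prime] (hp2 : p ≠ 2) {L : Subgroup G}
    (hperf : Group.IsPerfect L) (hdiv : p ∣ Nat.card L) (S : Sylow p L)
    (hfix : ∀ n : L, (orderOf n).Coprime p → ∀ e ∈ (S : Subgroup L), e ^ p = 1 →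
      n * e * n⁻¹ ∈ (S : Subgroup L) → n * e = e * n) : False := by
  obtain ⟨N, hN, hcompl⟩ := (Cfsg.Agent.S0071.result S).2 fun Q hQ g hg hgp => by
    rw [mem_centralizer_iff]
    intro u hu
    exact (CoprimeOmega.commute_of_commute_order_p hp2 hgp (S.isPGroup'.to_le hQ)
      (fun w hw => (mem_normalizer_iff.1 hg w).1 hw)
      (fun w hw hwp => hfix g hgp w (hQ hw) hwp
        (hQ ((mem_normalizer_iff.1 hg w).1 hw))) u hu).symm
  have hS1 : Nat.card (S : Subgroup L) ≠ 1 := fun h =>
    S.ne_bot_of_dvd_card hdiv (card_eq_one.1 h)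
  have hq : IsPGroup p (L ⧸ N) := by
    obtain ⟨k, hk⟩ := S.isPGroup'.exists_card_eq
    refine IsPGroup.of_card (n := k) ?_
    rw [← index_eq_card, hcompl.symm.index_eq_card, hk]
  haveI := hq.isNilpotent
  have hsub : Subsingleton (L ⧸ N) := by
    by_contra hns
    haveI : Nontrivial (L ⧸ N) := not_subsingleton_iff_nontrivial.1 hns
    have hlt := Group.IsSolvable.commutator_lt_top_of_nontrivial (L ⧸ N)
    refine hlt.ne ?_
    have h1 : commutator L = ⊤ := hperf.commutator_eq_top
    rw [_root_.commutator_def, ← map_top_of_surjective _ (QuotientGroup.mk'_surjective N),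
      ← map_commutator, ← _root_.commutator_def, h1]
  refine hS1 ?_
  rw [← hcompl.symm.index_eq_card, index_eq_card, Nat.card_eq_one_iff_unique]
  exact ⟨hsub, inferInstance⟩

section main

variable [Finite G] [hp : Fact p.Prime]

theorem dvd_card_component (hcore : Cfsg.pPrimeCore p G = ⊥) {L : Subgroup G}
    (hL : Cfsg.IsComponent L) : p ∣ Nat.card L := by
  by_contra h
  exact Components.isComponent_ne_bot hL (le_bot_iff.1 (hcore ▸
    Components.subnormal_coprime_le_pPrimeCore hL.1
      (Nat.Coprime.symm (hp.out.coprime_iff_not_dvd.2 h))))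

theorem fitting_eq_pCore (hcore : Cfsg.pPrimeCore p G = ⊥) :
    Cfsg.fittingSubgroup G ≤ Cfsg.pCore p G := by
  rw [Components.fittingSubgroup_eq_iSup_pCore]
  refine iSup_le fun q => ?_
  rcases eq_or_ne (q : ℕ) p with h | h
  · rw [h]
  · haveI : Fact (q : ℕ).Prime := ⟨Nat.prime_of_mem_primeFactors q.2⟩
    haveI : (Cfsg.pCore (q : ℕ) G).Normal := Cfsg.pCore_normal _ G
    refine le_trans (PSolvable.le_pPrimeCore ?_) (hcore.le.trans bot_le)
    obtain ⟨k, hk⟩ := (PSolvable.pCore_isPGroup (p := (q : ℕ)) (G := G)).exists_card_eq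
    rw [hk]
    exact Nat.Coprime.pow_left _
      ((Nat.coprime_primes (Fact.out : (q : ℕ).Prime) hp.out).2 h)

/-- An element centralised by no non-scalar fusion: if a power of an isolated element is moved
into its centralizer, it is fixed. -/
theorem zpow_fix {x : G} (hx : orderOf x = p) (hiso : Cfsg.IsIsolated x) {i : ℤ} {n : G}
    (hc : Commute (n * x ^ i * n⁻¹) x) : n * x ^ i * n⁻¹ = x ^ i := by
  by_cases hi : x ^ i = 1
  · simp [hi]
  have hmem : x ∈ zpowers (x ^ i) := by
    have hle : zpowers (x ^ i) ≤ zpowers x := zpowers_le.2 ⟨i, rfl⟩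
    have h1 : Nat.card (zpowers (x ^ i)) = p := by
      rw [Nat.card_zpowers]
      refine orderOf_eq_prime ?_ hi
      rw [← zpow_natCast, ← zpow_mul, mul_comm, zpow_mul, zpow_natCast, ← hx, pow_orderOf_eq_one,
        one_zpow]
    have := eq_of_le_of_card_ge hle (by rw [h1, Nat.card_zpowers, hx])
    rw [this]
    exact mem_zpowers x
  obtain ⟨k, hk⟩ := hmem
  have h2 : Commute (n * x * n⁻¹) x := by
    have h3 : (n * x ^ i * n⁻¹) ^ k = n * x * n⁻¹ := by rw [conj_zpow]; exact congrArg (fun t => n * t * n⁻¹) hk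
    rw [← h3]
    exact hc.zpow_left k
  have h4 := hiso n h2.symm
  rw [← conj_zpow, h4]

theorem exists_conj_mem {x : G} (hx : orderOf x = p) (hiso : Cfsg.IsIsolated x) (P : Sylow p G) :
    ∃ a : G, a * x * a⁻¹ ∈ (P : Subgroup G) := by
  have hz : IsPGroup p (zpowers x) := IsPGroup.of_card (n := 1) (by
    rw [Nat.card_zpowers, hx, pow_one])
  obtain ⟨P0, hP0⟩ := hz.exists_le_sylow
  obtain ⟨a, ha⟩ := MulAction.exists_smul_eq G P0 P
  refine ⟨a, ?_⟩
  rw [← ha]
  exact mem_map_of_mem _ (hP0 (mem_zpowers x))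

theorem false_of_pCore_ne_bot (hp2 : p ≠ 2) (hcore : Cfsg.pPrimeCore p G = ⊥)
    (hrank : Cfsg.PRankLE p 2 G) {x : G} (hx : orderOf x = p) (hiso : Cfsg.IsIsolated x)
    (hnc : x ∉ center G) {L : Subgroup G} (hL : Cfsg.IsComponent L)
    (hQ : Cfsg.pCore p G ≠ ⊥) : False := by
  set Q := Cfsg.pCore p G with hQdef
  have hQp : IsPGroup p Q := PSolvable.pCore_isPGroup
  obtain ⟨S⟩ := (inferInstance : Nonempty (Sylow p L))
  obtain ⟨P, hSP⟩ := (S.isPGroup'.map L.subtype).exists_le_sylow
  obtain ⟨a, hxP⟩ := exists_conj_mem hx hiso P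
  set y := a * x * a⁻¹ with hy
  have hyiso : Cfsg.IsIsolated y := isolated_conj hiso a
  have hyo : orderOf y = p := by
    rw [← hx, hy]; exact (MulAut.conj a).orderOf_eq x
  have hcen := commute_of_isPGroup hyiso P.isPGroup' hxP
  have hQP : Q ≤ P := PSolvable.pCore_le_sylow P
  have hyQ : y ∉ Q := by
    intro hyQ
    apply hnc
    have hQn : Q.Normal := Cfsg.pCore_normal p G
    have hall : ∀ g : G, g * y * g⁻¹ = y := fun g =>
      hyiso g (hcen _ (hQP (hQn.conj_mem y hyQ g))).symm
    rw [mem_center_iff]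
    intro g
    have h1 : a⁻¹ * (a * g * a⁻¹ * y * (a * g * a⁻¹)⁻¹) * a = a⁻¹ * y * a := by
      rw [hall]
    rw [hy] at h1
    simp only [mul_assoc, inv_mul_cancel_left, mul_inv_cancel_left, mul_inv_rev, inv_inv,
      inv_mul_cancel, mul_one] at h1
    exact mul_inv_eq_iff_eq_mul.1 (by simpa only [mul_assoc] using h1)
  obtain ⟨z0, hz0⟩ := exists_prime_orderOf_dvd_card' (G := Q) p (by
    obtain ⟨k, hk⟩ := hQp.exists_card_eq
    rw [hk]
    refine dvd_pow_self p fun h => hQ ?_
    rw [h, pow_zero] at hk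
    exact card_eq_one.1 hk)
  set z : G := (z0 : G) with hz
  have hzo : orderOf z = p := by rw [hz, orderOf_coe, hz0]
  have hz1 : z ≠ 1 := fun h => by rw [h, orderOf_one] at hzo; exact hp.out.one_lt.ne hzo
  have hind : y ∉ zpowers z := fun h => hyQ (zpowers_le.2 z0.2 h)
  have hLQ : L ≤ centralizer (Q : Set G) :=
    le_trans (le_trans (Components.isComponent_le_layer hL)
      Components.layer_le_centralizer_fittingSubgroup)
      (centralizer_le (Components.pCore_le_fittingSubgroup p))
  have hLz : ∀ n ∈ L, Commute n z := fun n hn =>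
    (mem_centralizer_iff.1 (hLQ hn) z z0.2).symm
  have hmem : ∀ e : L, e ∈ (S : Subgroup L) → (e : G) ∈ (P : Subgroup G) := fun e he =>
    hSP (mem_map_of_mem _ he)
  refine not_perfect_of_fix hp2 hL.2.1 (dvd_card_component hcore hL) S fun n _ e he hep hne => ?_
  have hep' : (e : G) ^ p = 1 := by simpa using congrArg Subtype.val hep
  obtain ⟨i, j, hij⟩ := exists_pow_mul_pow hrank (a := z) (b := y) (e := (e : G))
    (by rw [← hzo]; exact pow_orderOf_eq_one z) (by rw [← hyo]; exact pow_orderOf_eq_one y)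
    hep' (hcen z (hQP z0.2)) (hLz e e.2) (hcen e (hmem e he)) hz1 hind
  have h1 : Commute ((n : G) * e * (n : G)⁻¹) y := by
    have := hcen _ (hmem _ hne)
    simpa using this
  have h2 : (n : G) * e * (n : G)⁻¹ = z ^ i * ((n : G) * y ^ j * (n : G)⁻¹) := by
    rw [hij, ← mul_assoc, ((hLz n n.2).zpow_right i).eq]
    group
  have h3 : Commute ((n : G) * y ^ j * (n : G)⁻¹) y := by
    have h4 : (n : G) * y ^ j * (n : G)⁻¹ = (z ^ i)⁻¹ * ((n : G) * e * (n : G)⁻¹) := by
      rw [h2, inv_mul_cancel_left]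
    rw [h4]
    exact ((hcen z (hQP z0.2)).zpow_left i).inv_left.mul_left h1
  have h5 := zpow_fix hyo hyiso h3
  apply Subtype.ext
  push_cast
  have h6 : (n : G) * e * (n : G)⁻¹ = e := by rw [h2, h5, ← hij]
  exact mul_inv_eq_iff_eq_mul.1 h6

theorem false_of_two_components (hp2 : p ≠ 2) (hcore : Cfsg.pPrimeCore p G = ⊥)
    (hrank : Cfsg.PRankLE p 2 G) {x : G} (hx : orderOf x = p) (hiso : Cfsg.IsIsolated x)
    {L M : Subgroup G} (hL : Cfsg.IsComponent L) (hM : Cfsg.IsComponent M) (hne : L ≠ M)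
    (hint : L ⊓ M = ⊥) : False := by
  obtain ⟨S⟩ := (inferInstance : Nonempty (Sylow p L))
  obtain ⟨T⟩ := (inferInstance : Nonempty (Sylow p M))
  have hcomm := Components.isComponent_le_centralizer hL hM hne
  have hST : IsPGroup p ((S : Subgroup L).map L.subtype ⊔ (T : Subgroup M).map M.subtype :
      Subgroup G) := by
    refine IsPGroup.to_sup_of_normal_right' (S.isPGroup'.map L.subtype) (T.isPGroup'.map M.subtype)
      (fun u hu => ?_)
    obtain ⟨u', -, rfl⟩ := hu
    exact centralizer_le (map_subtype_le _) (centralizer_le le_rfl (hcomm u'.2))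
      |> Components.centralizer_le_normalizer_self _
  obtain ⟨P, hP⟩ := hST.exists_le_sylow
  obtain ⟨a, hxP⟩ := exists_conj_mem hx hiso P
  set y := a * x * a⁻¹ with hy
  have hyiso : Cfsg.IsIsolated y := isolated_conj hiso a
  have hyo : orderOf y = p := by rw [← hx, hy]; exact (MulAut.conj a).orderOf_eq x
  have hcen := commute_of_isPGroup hyiso P.isPGroup' hxP
  obtain ⟨u, hu⟩ := exists_prime_orderOf_dvd_card' (G := (S : Subgroup L)) p
    (S.dvd_card_of_dvd_card (dvd_card_component hcore hL))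
  obtain ⟨v, hv⟩ := exists_prime_orderOf_dvd_card' (G := (T : Subgroup M)) p
    (T.dvd_card_of_dvd_card (dvd_card_component hcore hM))
  set y1 : G := ((u : L) : G) with hy1
  set y2 : G := ((v : M) : G) with hy2
  have hy1o : orderOf y1 = p := by rw [hy1, orderOf_coe, orderOf_coe, hu]
  have hy2o : orderOf y2 = p := by rw [hy2, orderOf_coe, orderOf_coe, hv]
  have hy1n : y1 ≠ 1 := fun h => by rw [h, orderOf_one] at hy1o; exact hp.out.one_lt.ne hy1o
  have hy2n : y2 ≠ 1 := fun h => by rw [h, orderOf_one] at hy2o; exact hp.out.one_lt.ne hy2o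
  have hLM : ∀ l ∈ L, ∀ m ∈ M, Commute l m := fun l hl m hm =>
    (mem_centralizer_iff.1 (hcomm hl) m hm).symm
  have hsep : ∀ l ∈ L, l ∈ M → l = 1 := fun l hl hm => mem_bot.1 (hint ▸ mem_inf.2 ⟨hl, hm⟩)
  have hy1L : y1 ∈ L := (u : L).2
  have hy2M : y2 ∈ M := (v : M).2
  have hind : y2 ∉ zpowers y1 := fun h => hy2n (hsep _ (zpowers_le.2 hy1L h) hy2M)
  have hPS : ∀ e : L, e ∈ (S : Subgroup L) → (e : G) ∈ (P : Subgroup G) := fun e he =>
    hP (mem_sup_left (mem_map_of_mem _ he))
  have hPT : ∀ e : M, e ∈ (T : Subgroup M) → (e : G) ∈ (P : Subgroup G) := fun e he =>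
    hP (mem_sup_right (mem_map_of_mem _ he))
  have hpow : ∀ {w : G}, orderOf w = p → w ^ p = 1 := fun h => h ▸ pow_orderOf_eq_one _
  obtain ⟨i, j, hij⟩ := exists_pow_mul_pow hrank (hpow hy1o) (hpow hy2o) (hpow hyo)
    (hLM _ hy1L _ hy2M) (hcen _ (hPS _ u.2)).symm (hcen _ (hPT _ v.2)).symm hy1n hind
  have hy0 : y ≠ 1 := fun h => by rw [h, orderOf_one] at hyo; exact hp.out.one_lt.ne hyo
  -- generic step
  have step : ∀ (K N : Subgroup G) (U : Sylow p K) (k m : G) (k' m' : ℤ), Cfsg.IsComponent K →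
      (∀ l ∈ K, ∀ l' ∈ N, Commute l l') → (∀ l ∈ K, l ∈ N → l = 1) →
      (∀ e : K, e ∈ (U : Subgroup K) → (e : G) ∈ (P : Subgroup G)) →
      k ∈ K → m ∈ N → orderOf k = p → orderOf m = p → y = k ^ k' * m ^ m' → k ^ k' ≠ 1 →
      False := by
    intro K N U k m k' m' hK hKN hKN1 hPU hk hm hko hmo hdec hk1
    refine not_perfect_of_fix hp2 hK.2.1 (dvd_card_component hcore hK) U
      fun n _ e he hep hne => ?_
    have hep' : (e : G) ^ p = 1 := by simpa using congrArg Subtype.val hep
    have hm1 : m ≠ 1 := fun h => by rw [h, orderOf_one] at hmo; exact hp.out.one_lt.ne hmo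
    have hem : ∀ w ∈ K, Commute w (m ^ m') := fun w hw => (hKN w hw m hm).zpow_right m'
    have hcomk : ∀ w ∈ K, Commute w y → Commute w (k ^ k') := by
      intro w hw hwy
      have h1 : k ^ k' = y * (m ^ m')⁻¹ := by rw [hdec, mul_inv_cancel_right]
      rw [h1]
      exact hwy.mul_right (hem w hw).inv_right
    have hkind : k ^ k' ∉ zpowers m := fun h =>
      hk1 (hKN1 _ (zpow_mem hk k') (zpowers_le.2 hm h))
    obtain ⟨s, t, hst⟩ := exists_pow_mul_pow hrank (a := m) (b := k ^ k') (e := (e : G))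
      (hpow hmo) (by rw [← zpow_natCast, ← zpow_mul, mul_comm, zpow_mul, zpow_natCast, hpow hko,
        one_zpow]) hep' ((hKN _ (zpow_mem hk k') m hm).symm) (hKN _ e.2 m hm)
      (hcomk _ e.2 (hcen _ (hPU e he))) hm1 hkind
    have hms : m ^ s = 1 := by
      refine hKN1 _ ?_ (zpow_mem hm s)
      have h1 : m ^ s = (e : G) * ((k ^ k') ^ t)⁻¹ := by rw [hst, mul_inv_cancel_right]
      rw [h1]
      exact mul_mem e.2 (inv_mem (zpow_mem (zpow_mem hk k') t))
    rw [hms, one_mul, ← zpow_mul] at hst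
    have hy' : Commute ((n : G) * y ^ t * (n : G)⁻¹) y := by
      have h1 : (n : G) * y ^ t * (n : G)⁻¹ =
          ((n : G) * e * (n : G)⁻¹) * ((n : G) * (m ^ m') ^ t * (n : G)⁻¹) := by
        rw [hdec, (hKN _ (zpow_mem hk k') _ (zpow_mem hm m')).mul_zpow, hst, ← zpow_mul]
        group
      rw [h1]
      refine Commute.mul_left ?_ ?_
      · have := hcen _ (hPU _ hne)
        simpa using this
      · rw [((hem _ n.2).zpow_right t).eq, mul_inv_cancel_right, hdec]
        exact (((hem _ (zpow_mem hk k')).symm.mul_right (Commute.refl _)).zpow_left t)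
    have h5 := zpow_fix hyo hyiso hy'
    apply Subtype.ext
    push_cast
    refine mul_inv_eq_iff_eq_mul.1 ?_
    rw [hdec, (hKN _ (zpow_mem hk k') _ (zpow_mem hm m')).mul_zpow, ← zpow_mul, ← hst,
      ← mul_assoc, mul_assoc ((n : G) * e), ← ((hem _ n.2).zpow_right t).inv_left.eq,
      ← mul_assoc] at h5
    exact mul_right_cancel h5
  by_cases hi : y1 ^ i = 1
  · refine step M L T y2 y1 j i hM (fun l hl l' hl' => (hLM l' hl' l hl).symm)
      (fun l hl hl' => hsep l hl' hl) hPT hy2M hy1L hy2o hy1o ?_ ?_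
    · rw [hij, ((hLM _ (zpow_mem hy1L i) _ (zpow_mem hy2M j))).eq]
    · intro h
      exact hy0 (by rw [hij, hi, h, one_mul])
  · exact step L M S y1 y2 i j hL hLM hsep hPS hy1L hy2M hy1o hy2o hij hi

/-- The main result. -/
theorem generalizedFitting_simple (hp2 : p ≠ 2) (hcore : Cfsg.pPrimeCore p G = ⊥)
    (hrank : Cfsg.PRankLE p 2 G) (x : G) (hx : orderOf x = p) (hiso : Cfsg.IsIsolated x)
    (hnc : x ∉ center G) :
    IsSimpleGroup ↥(Cfsg.generalizedFittingSubgroup G) ∧
      ¬ IsMulCommutative ↥(Cfsg.generalizedFittingSubgroup G) := by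
  have hcompo : ∃ L : Subgroup G, Cfsg.IsComponent L := by
    by_contra h
    push_neg at h
    have hlay : Cfsg.layer G = ⊥ :=
      le_bot_iff.1 (Components.layer_le_iff.2 fun L hL => absurd hL (h L))
    obtain ⟨P⟩ := (inferInstance : Nonempty (Sylow p G))
    obtain ⟨a, hxP⟩ := exists_conj_mem hx hiso P
    set y := a * x * a⁻¹ with hy
    have hyiso : Cfsg.IsIsolated y := isolated_conj hiso a
    have hcen := commute_of_isPGroup hyiso P.isPGroup' hxP
    have hF : Cfsg.generalizedFittingSubgroup G ≤ Cfsg.pCore p G := by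
      rw [Cfsg.generalizedFittingSubgroup, hlay, bot_sup_eq]
      exact fitting_eq_pCore hcore
    have hyQ : y ∈ Cfsg.pCore p G := by
      refine hF (Components.centralizer_generalizedFittingSubgroup_le ?_)
      rw [mem_centralizer_iff]
      intro w hw
      exact hcen w (PSolvable.pCore_le_sylow P (hF hw))
    have hQn : (Cfsg.pCore p G).Normal := Cfsg.pCore_normal p G
    have hall : ∀ g : G, g * y * g⁻¹ = y := fun g =>
      hyiso g (hcen _ (PSolvable.pCore_le_sylow P (hQn.conj_mem y hyQ g))).symm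
    have hyc : y ∈ center G := mem_center_iff.2 fun g => mul_inv_eq_iff_eq_mul.1 (hall g)
    refine hnc ?_
    have h1 := Subgroup.Normal.conj_mem (inferInstance : (center G).Normal) y hyc a⁻¹
    simpa [hy, mul_assoc] using h1
  obtain ⟨L, hL⟩ := hcompo
  have hQ : Cfsg.pCore p G = ⊥ := by
    by_contra h
    exact false_of_pCore_ne_bot hp2 hcore hrank hx hiso hnc hL h
  have hFit : Cfsg.fittingSubgroup G = ⊥ := le_bot_iff.1 (hQ ▸ fitting_eq_pCore hcore)
  -- elements of a component centralising all components are trivial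
  have htriv : ∀ w ∈ Cfsg.layer G, (∀ K : Subgroup G, Cfsg.IsComponent K →
      ∀ k ∈ K, k * w = w * k) → w = 1 := by
    intro w hw hall
    have hn : (Cfsg.layer G).Normal := Components.layer_normal
    have hwC : w ∈ Cfsg.layer G ⊓ centralizer (Cfsg.layer G : Set G) := by
      refine ⟨hw, mem_centralizer_iff.2 fun l hl => ?_⟩
      have hle : Cfsg.layer G ≤ centralizer ({w} : Set G) :=
        Components.layer_le_iff.2 fun K hK k hk =>
          mem_centralizer_singleton_iff.2 (hall K hK k hk)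
      exact mem_centralizer_singleton_iff.1 (hle hl)
    have hAn : (Cfsg.layer G ⊓ centralizer (Cfsg.layer G : Set G)).Normal := inferInstance
    have hAc : IsMulCommutative ↥(Cfsg.layer G ⊓ centralizer (Cfsg.layer G : Set G)) :=
      ⟨⟨fun u v => Subtype.ext (mem_centralizer_iff.1 v.2.2 u u.2.1)⟩⟩
    have hnil : Group.IsNilpotent ↥(Cfsg.layer G ⊓ centralizer (Cfsg.layer G : Set G)) := by
      letI : CommGroup ↥(Cfsg.layer G ⊓ centralizer (Cfsg.layer G : Set G)) :=
        { (inferInstance : Group _) with mul_comm := hAc.is_comm.comm }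
      infer_instance
    exact mem_bot.1 (hFit ▸ Components.le_fittingSubgroup hAn hnil hwC)
  have huniq : ∀ M : Subgroup G, Cfsg.IsComponent M → M = L := by
    intro M hM
    by_contra hne
    refine false_of_two_components hp2 hcore hrank hx hiso hM hL hne (eq_bot_iff.2 ?_)
    intro w hw
    rw [mem_bot]
    refine htriv w (Components.isComponent_le_layer hM hw.1) fun K hK k hk => ?_
    rcases eq_or_ne K M with rfl | hKM
    · exact (mem_centralizer_iff.1 (Components.isComponent_le_centralizer hK hL hne hk) w hw.2).symm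
    · exact (mem_centralizer_iff.1 (Components.isComponent_le_centralizer hK hM hKM hk) w hw.1).symm
  have hlay : Cfsg.layer G = L :=
    le_antisymm (Components.layer_le_iff.2 fun M hM => (huniq M hM).le)
      (Components.isComponent_le_layer hL)
  have hgen : Cfsg.generalizedFittingSubgroup G = L := by
    rw [Cfsg.generalizedFittingSubgroup, hFit, sup_bot_eq, hlay]
  rw [hgen]
  have hc : center L = ⊥ := by
    rw [eq_bot_iff]
    intro w hw
    rw [mem_bot]
    refine Subtype.ext (htriv w (Components.isComponent_le_layer hL w.2) fun K hK k hk => ?_)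
    obtain rfl := huniq K hK
    exact congrArg Subtype.val (mem_center_iff.1 hw ⟨k, hk⟩)
  haveI hsimp : IsSimpleGroup (L ⧸ center L) := hL.2.2
  refine ⟨?_, Components.quasisimple_not_isMulCommutative hL.2⟩
  let e : L ⧸ center L ≃* L :=
    (QuotientGroup.quotientMulEquivOfEq hc).trans QuotientGroup.quotientBot
  haveI : Nontrivial L := e.toEquiv.nontrivial_congr.1 inferInstance
  exact IsSimpleGroup.isSimpleGroup_of_surjective e.toMonoidHom e.surjective

end main

end Cfsg.Agent.Lib.IsolatedOdd
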