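import Mathlib
import Cfsg.Prelude.Def_Transfer
import Cfsg.Prelude.Def_IsolatedElements
import Cfsg.Agent.Lib.Transfer.PResidual
import Cfsg.Agent.Lib.LocalChar.PClosed
import Cfsg.Agent.S0077
import Cfsg.Agent.S4215

/-!
Transfer in perfect groups with an isolated element of odd prime order: the normalizer of a weakly
closed subgroup cannot fix a point of an abelian factor of the Sylow subgroup.
-/

set_option autoImplicit false

namespace Cfsg.Agent.Lib.IsolatedOdd

open Subgroup
open scoped commutatorElement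

variable {p : ℕ} [hp : Fact p.Prime]

theorem false_of_fixed {N : Type*} [Group N] [Finite N] (S : Sylow p N) (D : Subgroup N) [D.Normal]
    (hres : Cfsg.pResidual p N ⊔ D = ⊤) {s : N} (hs : s ∈ (S : Subgroup N)) (hsD : s ∉ D)
    (hfix : ∀ n : N, n * s * n⁻¹ * s⁻¹ ∈ D)
    (hab : ∀ a ∈ (S : Subgroup N), ∀ b ∈ (S : Subgroup N), a * b * a⁻¹ * b⁻¹ ∈ D) : False := by
  classical
  set π := QuotientGroup.mk' D with hπ
  set T := (S : Subgroup N).map π with hT
  have hTc : ∀ a ∈ T, ∀ b ∈ T, a * b = b * a := by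
    rintro _ ⟨a, ha, rfl⟩ _ ⟨b, hb, rfl⟩
    rw [← map_mul, ← map_mul]
    refine QuotientGroup.eq_iff_div_mem.2 ?_
    simpa [div_eq_mul_inv, mul_assoc] using hab a ha b hb
  letI : CommGroup T :=
    { (inferInstance : Group T) with
      mul_comm := fun a b => Subtype.ext (hTc _ a.2 _ b.2) }
  have hTp : IsPGroup p T := S.isPGroup'.map π
  have hidx : ¬ p ∣ T.index := fun h =>
    S.not_dvd_index (h.trans (index_map_dvd _ (QuotientGroup.mk'_surjective D)))
  set f : N ⧸ D →* T := MonoidHom.transfer (MonoidHom.id T) with hf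
  have hcen : ∀ g : N ⧸ D, g⁻¹ * π s * g = π s := by
    intro g
    obtain ⟨n, rfl⟩ := QuotientGroup.mk'_surjective D g
    rw [← map_inv, ← map_mul, ← map_mul]
    refine QuotientGroup.eq_iff_div_mem.2 ?_
    simpa [div_eq_mul_inv, mul_assoc] using hfix n⁻¹
  have hkey : ∀ (k : ℕ) (g : N ⧸ D), g⁻¹ * π s ^ k * g ∈ T → g⁻¹ * π s ^ k * g = π s ^ k := by
    intro k g _
    have := conj_pow (a := g⁻¹) (b := π s) (i := k)
    rw [inv_inv] at this
    rw [← this, hcen g]
  have hval := MonoidHom.transfer_eq_pow (MonoidHom.id T) (π s) hkey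
  have hker : f.comp π = 1 := by
    refine MonoidHom.ext fun n => ?_
    have hle : (⊤ : Subgroup N) ≤ (f.comp π).ker := by
      rw [← hres]
      refine sup_le (Transfer.pResidual_le_ker hTp _) fun d hd => ?_
      rw [MonoidHom.mem_ker, MonoidHom.comp_apply, hπ, QuotientGroup.mk'_apply,
        (QuotientGroup.eq_one_iff d).2 hd, map_one]
    exact hle (mem_top n)
  have h1 : π s ^ T.index = 1 := by
    have := DFunLike.congr_fun hker s
    rw [MonoidHom.comp_apply, hf, hval] at this
    exact congrArg Subtype.val this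
  obtain ⟨k, hk⟩ := hTp ⟨π s, mem_map_of_mem _ hs⟩
  have hk' : π s ^ p ^ k = 1 := congrArg Subtype.val hk
  have h2 : π s = 1 := by
    have hcop : Nat.Coprime (p ^ k) T.index :=
      Nat.Coprime.pow_left k (hp.out.coprime_iff_not_dvd.2 hidx)
    have := pow_gcd_eq_one.2 ⟨hk', h1⟩
    rwa [hcop.gcd_eq_one, pow_one] at this
  exact hsD ((QuotientGroup.eq_one_iff s).1 h2)

theorem pResidual_eq_top_of_perfect {G : Type*} [Group G] [Finite G] (S : Sylow p G)
    (hS : (S : Subgroup G) ≤ _root_.commutator G) : Cfsg.pResidual p G = ⊤ := by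
  haveI : (Cfsg.pResidual p G).Normal := by
    haveI := Transfer.pResidual_characteristic (G := G) (p := p)
    infer_instance
  haveI := (Transfer.isPGroup_quotient_pResidual (G := G) (p := p)).isNilpotent
  rcases subsingleton_or_nontrivial (G ⧸ Cfsg.pResidual p G) with hs | hn
  · exact QuotientGroup.subsingleton_iff.1 hs
  exfalso
  refine (Group.IsSolvable.commutator_lt_top_of_nontrivial (G ⧸ Cfsg.pResidual p G)).ne ?_
  rw [eq_top_iff, ← map_top_of_surjective _ (QuotientGroup.mk'_surjective (Cfsg.pResidual p G)),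
    ← Transfer.pResidual_sup_sylow S, Subgroup.map_sup,
    (Subgroup.map_eq_bot_iff _).2 (QuotientGroup.ker_mk' _).ge, bot_sup_eq]
  refine (map_mono hS).trans ?_
  rw [_root_.commutator_def, _root_.commutator_def, map_commutator]
  exact commutator_mono le_top le_top

section
variable {G : Type*} [Group G] [Finite G]

theorem normalizer_le_centralizer_isolated {x : G} (hiso : Cfsg.IsIsolated x) {S : Subgroup G}
    (hS : ∀ a ∈ S, Commute a x) {Q : Subgroup G} (hQS : Q ≤ S) (hxQ : x ∈ Q) :
    Subgroup.normalizer (Q : Set G) ≤ centralizer ({x} : Set G) := by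
  intro n hn
  refine mem_centralizer_singleton_iff.2 (mul_inv_eq_iff_eq_mul.1 (hiso n ?_))
  exact (hS _ (hQS ((mem_normalizer_iff.1 hn x).1 hxQ))).symm

/-- If `Q` is weakly closed, of small commutator with the Sylow subgroup modulo `⟨x⟩`, then
`O^p(N(Q))⟨x⟩ = N(Q)`. -/
theorem pResidual_normalizer_sup (hp2 : p ≠ 2) (hperf : _root_.commutator G = ⊤) (S : Sylow p G)
    {x : G} (hxS : x ∈ (S : Subgroup G)) (hiso : Cfsg.IsIsolated x)
    (hcen : ∀ a ∈ (S : Subgroup G), Commute a x) {Q : Subgroup G}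
    (hQ : Cfsg.IsWeaklyClosed Q (S : Subgroup G)) (hxQ : x ∈ Q)
    (hcomm : ∀ u ∈ (S : Subgroup G), ∀ z ∈ Q,
      (fun y : G => y⁻¹ * z⁻¹ * y * z) ((fun y : G => y⁻¹ * z⁻¹ * y * z) u) ∈ zpowers x) :
    Cfsg.pResidual p (Subgroup.normalizer (Q : Set G)) ⊔
      (zpowers x).subgroupOf (Subgroup.normalizer (Q : Set G)) = ⊤ := by
  classical
  set C := centralizer ({x} : Set G) with hC
  have hSC : (S : Subgroup G) ≤ C := fun a ha => mem_centralizer_singleton_iff.2 (hcen a ha).eq
  have hXS : zpowers x ≤ (S : Subgroup G) := zpowers_le.2 hxS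
  have hXC : zpowers x ≤ C := hXS.trans hSC
  have hNX : Subgroup.normalizer (zpowers x : Set G) = C := by
    refine le_antisymm (normalizer_le_centralizer_isolated hiso hcen hXS (mem_zpowers x)) ?_
    intro c hc
    rw [mem_normalizer_iff]
    have hcx : c * x * c⁻¹ = x := mul_inv_eq_iff_eq_mul.2 (mem_centralizer_singleton_iff.1 hc)
    intro h
    constructor
    · rintro ⟨i, rfl⟩
      exact ⟨i, show x ^ i = c * x ^ i * c⁻¹ by rw [← conj_zpow, hcx]⟩
    · rintro ⟨i, hi⟩
      refine ⟨i, ?_⟩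
      have h1 : c * x ^ i * c⁻¹ = x ^ i := by rw [← conj_zpow, hcx]
      exact mul_left_cancel (mul_right_cancel (h1.trans hi))
  -- Grün: the Sylow subgroup lies in the derived group of the centralizer
  have hweakX : Cfsg.IsWeaklyClosed (zpowers x) (S : Subgroup G) := by
    refine ⟨hXS, fun g hg => ?_⟩
    have h1 : g * x * g⁻¹ = x :=
      hiso g (hcen _ (hg (mem_map_of_mem _ (mem_zpowers x)))).symm
    rw [MonoidHom.map_zpowers]
    exact congrArg zpowers h1
  have hgrun := Cfsg.Agent.S0077.result S (zpowers x)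
    (zpowers_le.2 (mem_centralizer_iff.2 fun a ha => (hcen a ha).eq)) hweakX
  rw [hperf, top_inf_eq, hNX] at hgrun
  have hSC' : (S : Subgroup G) ≤ ⁅C, C⁆ := hgrun ▸ inf_le_left
  -- the quotient
  set X := (zpowers x).subgroupOf C with hX
  haveI : X.Normal := Subgroup.normal_subgroupOf_of_le_normalizer hNX.ge
  set f : C →* C ⧸ X := QuotientGroup.mk' X with hf
  have hfs : Function.Surjective f := QuotientGroup.mk'_surjective X
  let SC : Sylow p C := S.subtype hSC
  let Sb : Sylow p (C ⧸ X) := SC.mapSurjective hfs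
  have hresC : Cfsg.pResidual p (C ⧸ X) = ⊤ := by
    refine pResidual_eq_top_of_perfect Sb ?_
    have h1 : (SC : Subgroup C) ≤ _root_.commutator C := by
      intro a ha
      have ha' : (a : G) ∈ (S : Subgroup G) := ha
      have := hSC' ha'
      rw [← map_subtype_commutator C] at this
      obtain ⟨b, hb, hba⟩ := this
      rwa [Subtype.ext hba] at hb
    show (SC : Subgroup C).map f ≤ _root_.commutator (C ⧸ X)
    refine (map_mono h1).trans ?_
    rw [_root_.commutator_def, _root_.commutator_def, map_commutator]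
    exact commutator_mono le_top le_top
  have hQC : Q ≤ C := hQ.1.trans hSC
  set Q' := Q.subgroupOf C with hQ'
  have hXQ : X ≤ Q' := fun a ha => zpowers_le.2 hxQ ha
  have hker : f.ker = X := QuotientGroup.ker_mk' X
  have hcomap : (Q'.map f).comap f = Q' := by
    rw [comap_map_eq, hker, sup_eq_left.2 hXQ]
  have hScomap : ((SC : Subgroup C).map f).comap f = SC := by
    rw [comap_map_eq, hker, sup_eq_left.2 (fun a ha => hXS ha)]
  have hweak : Cfsg.IsWeaklyClosed (Q'.map f) (Sb : Subgroup (C ⧸ X)) := by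
    refine ⟨map_mono (fun a ha => hQ.1 ha), fun g hg => ?_⟩
    obtain ⟨c, rfl⟩ := hfs g
    have hmapeq : (Q'.map f).map (MulAut.conj (f c)).toMonoidHom =
        (Q'.map (MulAut.conj c).toMonoidHom).map f := by
      rw [Subgroup.map_map, Subgroup.map_map]
      congr 1
    have h1 : Q'.map (MulAut.conj c).toMonoidHom ≤ (SC : Subgroup C) := by
      rw [← hScomap, ← map_le_iff_le_comap, ← hmapeq]
      exact hg
    have h2 : Q.map (MulAut.conj (c : G)).toMonoidHom = Q := by
      refine hQ.2 c ?_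
      rintro _ ⟨a, ha, rfl⟩
      exact h1 (mem_map_of_mem _ (show (⟨a, hQC ha⟩ : C) ∈ Q' from ha))
    rw [hmapeq]
    congr 1
    ext a
    constructor
    · rintro ⟨b, hb, rfl⟩
      exact h2.le (mem_map_of_mem _ (show (b : G) ∈ Q from hb))
    · intro ha
      obtain ⟨b, hb, hba⟩ := h2.ge (show (a : G) ∈ Q from ha)
      exact ⟨⟨b, hQC hb⟩, hb, Subtype.ext hba⟩
  have hiter : ∀ u ∈ (Sb : Subgroup (C ⧸ X)), ∀ z ∈ Q'.map f,
      (fun y : C ⧸ X => y⁻¹ * z⁻¹ * y * z)^[p - 1] u = 1 := by
    rintro _ ⟨u, hu, rfl⟩ _ ⟨z, hz, rfl⟩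
    obtain ⟨m, hm⟩ : ∃ m, p - 1 = m + 2 := ⟨p - 3, by have := hp.out.two_le; omega⟩
    rw [hm, Function.iterate_add_apply]
    have h2 : (fun y : C ⧸ X => y⁻¹ * (f z)⁻¹ * y * f z)^[2] (f u) = 1 := by
      have h3 := hcomm u hu z hz
      simp only [Function.iterate_succ, Function.iterate_zero, Function.comp_apply, id_eq,
        ← map_inv, ← map_mul]
      rw [← MonoidHom.mem_ker, hker]
      exact h3
    rw [h2]
    exact Function.iterate_fixed (by simp) m
  have hHW := Cfsg.Agent.S4215.result Sb (Q'.map f) hweak hiter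
  rw [hresC, top_inf_eq] at hHW
  -- pull back
  set M := Subgroup.normalizer (Q : Set G) with hMdef
  have hMC : M ≤ C := normalizer_le_centralizer_isolated hiso hcen hQ.1 hxQ
  set Nb := Subgroup.normalizer ((Q'.map f : Subgroup (C ⧸ X)) : Set (C ⧸ X)) with hNb
  have hmemN : ∀ c : C, f c ∈ Nb ↔ (c : G) ∈ M := by
    intro c
    rw [hNb, hMdef, mem_normalizer_iff, mem_normalizer_iff]
    have key : ∀ a : C, f a ∈ Q'.map f ↔ (a : G) ∈ Q := fun a => by
      rw [← mem_comap, hcomap]
      rfl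
    constructor
    · intro h a
      constructor
      · intro ha
        have := (h (f ⟨a, hQC ha⟩)).1 ((key _).2 ha)
        rw [← map_inv, ← map_mul, ← map_mul] at this
        exact (key _).1 this
      · intro ha
        have haC : a ∈ C := by
          have := mul_mem (mul_mem (inv_mem c.2) (hQC ha)) c.2
          simpa [mul_assoc] using this
        have := (h (f ⟨a, haC⟩)).2 (by
          rw [← map_inv, ← map_mul, ← map_mul]
          exact (key _).2 ha)
        exact (key _).1 this
    · intro h a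
      obtain ⟨a, rfl⟩ := hfs a
      rw [← map_inv, ← map_mul, ← map_mul, key, key]
      exact h a
  let g0 : M →* C ⧸ X := f.comp (inclusion hMC)
  let g : M →* Nb := g0.codRestrict Nb (fun m => (hmemN (inclusion hMC m)).2 m.2)
  have hgs : Function.Surjective g := by
    rintro ⟨y, hy⟩
    obtain ⟨c, rfl⟩ := hfs y
    exact ⟨⟨c, (hmemN c).1 hy⟩, Subtype.ext rfl⟩
  have hresN : Cfsg.pResidual p Nb = ⊤ := by
    refine map_injective (subtype_injective Nb) ?_
    rw [← MonoidHom.range_eq_map, range_subtype]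
    exact hHW
  have hmap : (Cfsg.pResidual p M).map g = ⊤ :=
    (LocalChar.map_pResidual_eq hgs).trans hresN
  have hgker : g.ker ≤ (zpowers x).subgroupOf M := by
    intro m hm
    have h1 : f (inclusion hMC m) = 1 := congrArg Subtype.val hm
    rw [← MonoidHom.mem_ker, hker] at h1
    exact h1
  rw [eq_top_iff]
  intro m _
  obtain ⟨r, hr, hrm⟩ := hmap ▸ mem_top (g m)
  have h1 : r⁻¹ * m ∈ g.ker := by rw [MonoidHom.mem_ker, map_mul, map_inv, hrm, inv_mul_cancel]
  rw [show m = r * (r⁻¹ * m) by group]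
  exact mul_mem_sup hr (hgker h1)

/-- The form used below. -/
theorem false_of_normalizer (S : Sylow p G) {M : Subgroup G} (hSM : (S : Subgroup G) ≤ M)
    {E : Subgroup G} (hres : Cfsg.pResidual p M ⊔ E.subgroupOf M = ⊤) (D : Subgroup G) (hED : E ≤ D)
    (hMD : M ≤ Subgroup.normalizer (D : Set G)) {s : G} (hs : s ∈ (S : Subgroup G)) (hsD : s ∉ D)
    (hfix : ∀ n ∈ M, n * s * n⁻¹ * s⁻¹ ∈ D)
    (hab : ∀ a ∈ (S : Subgroup G), ∀ b ∈ (S : Subgroup G), a * b * a⁻¹ * b⁻¹ ∈ D) : False := by
  haveI : (D.subgroupOf M).Normal := Subgroup.normal_subgroupOf_of_le_normalizer hMD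
  refine false_of_fixed (N := M) (S.subtype hSM) (D.subgroupOf M) ?_ (s := ⟨s, hSM hs⟩) hs hsD
    (fun n => hfix n n.2) (fun a ha b hb => hab a ha b hb)
  rw [eq_top_iff, ← hres]
  exact sup_le le_sup_left ((comap_mono hED).trans le_sup_right)

end

end Cfsg.Agent.Lib.IsolatedOdd
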