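import Mathlib
import Cfsg.Prelude.Def_IsolatedElements
import Cfsg.Prelude.Def_CaseTheorems
import Cfsg.Prelude.Def_OddOrderLocal
import Cfsg.Agent.Lib.IsolatedOdd.Transfer
import Cfsg.Agent.Lib.IsolatedOdd.RankTwo
import Cfsg.Agent.Lib.ThompsonA.Thompson
import Cfsg.Agent.Lib.YoshidaTransfer.Main
import Cfsg.Agent.Lib.H66.MaxClass.Basic
import Cfsg.Agent.Lib.PLemmas.MaximalClass
import Cfsg.Agent.Lib.PLemmas.NormalRankTwo
import Cfsg.Agent.Lib.MaxClassPow.Basic
import Cfsg.Agent.Lib.ExtraCube.Basic
import Cfsg.Agent.S3888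
import Cfsg.Agent.S1447

/-!
The Sylow `p`-subgroup of a perfect group of `p`-rank at most two with an isolated element of odd
order `p` in it.
-/

set_option autoImplicit false

namespace Cfsg.Agent.Lib.IsolatedOdd

open Subgroup
open scoped commutatorElement Pointwise

universe u

variable {G : Type u} [Group G]

/-- The elements of `M` fixing `s` modulo `D`. -/
def fixMod {M D : Subgroup G} (hMD : M ≤ Subgroup.normalizer (D : Set G)) (s : G) : Subgroup G where
  carrier := {n | n ∈ M ∧ n * s * n⁻¹ * s⁻¹ ∈ D}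
  one_mem' := ⟨one_mem M, by simp⟩
  mul_mem' := by
    rintro a b ⟨ha, ha'⟩ ⟨hb, hb'⟩
    refine ⟨mul_mem ha hb, ?_⟩
    have h1 : a * (b * s * b⁻¹ * s⁻¹) * a⁻¹ ∈ D := (mem_normalizer_iff.1 (hMD ha) _).1 hb'
    rw [show a * b * s * (a * b)⁻¹ * s⁻¹ =
      a * (b * s * b⁻¹ * s⁻¹) * a⁻¹ * (a * s * a⁻¹ * s⁻¹) by group]
    exact mul_mem h1 ha'
  inv_mem' := by
    rintro a ⟨ha, ha'⟩
    refine ⟨inv_mem ha, ?_⟩
    have h1 := (mem_normalizer_iff.1 (hMD (inv_mem ha)) _).1 (inv_mem ha')
    rw [inv_inv] at h1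
    convert h1 using 1
    group

/-- If generators commute modulo a normal subgroup, all elements do. -/
theorem comm_mem_of_generators {S D : Subgroup G} {T : Set G} (hT : closure T = S)
    (hSD : S ≤ Subgroup.normalizer (D : Set G))
    (h : ∀ a ∈ T, ∀ b ∈ T, a * b * a⁻¹ * b⁻¹ ∈ D) :
    ∀ a ∈ S, ∀ b ∈ S, a * b * a⁻¹ * b⁻¹ ∈ D := by
  have step : ∀ b ∈ S, (∀ a ∈ T, a * b * a⁻¹ * b⁻¹ ∈ D) → ∀ a ∈ S, a * b * a⁻¹ * b⁻¹ ∈ D := by
    intro b _ hb a ha
    have hle : closure T ≤ fixMod hSD b :=
      (closure_le _).2 fun t ht => ⟨hT ▸ subset_closure ht, hb t ht⟩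
    exact (hle (hT ▸ ha)).2
  intro a ha b hb
  refine step b hb (fun t ht => ?_) a ha
  have htS : t ∈ S := hT ▸ subset_closure ht
  have h1 := step t htS (fun c hc => h c hc t ht) b hb
  have h2 := inv_mem h1
  rwa [show (b * t * b⁻¹ * t⁻¹)⁻¹ = t * b * t⁻¹ * b⁻¹ by group] at h2

variable [Finite G] {p : ℕ} [hp : Fact p.Prime]

/-- A subgroup of prime index is maximal. -/
theorem isCoatom_of_prime_index {H : Type*} [Group H] [Finite H] {M : Subgroup H}
    (h : M.index = p) : IsCoatom M := by
  refine ⟨fun e => ?_, fun K hK => ?_⟩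
  · rw [e, index_top] at h
    exact hp.out.one_lt.ne h
  · have h1 := relIndex_mul_index hK.le
    rw [h] at h1
    rcases (Nat.dvd_prime hp.out).1 (Dvd.intro_left _ h1) with h2 | h2
    · exact index_eq_one.1 h2
    · exfalso
      rw [h2] at h1
      have h3 : M.relIndex K = 1 := by nlinarith [hp.out.pos]
      exact hK.not_ge (relIndex_eq_one.1 h3)

theorem rank_subgroup (hrank : Cfsg.PRankLE p 2 G) (H : Subgroup G) : Cfsg.PRankLE p 2 H := by
  intro A hA hAexp
  haveI := hA
  rw [← card_map_of_injective H.subtype_injective (K := A)]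
  refine hrank _ inferInstance ?_
  rintro _ ⟨a, ha, rfl⟩
  rw [← map_pow, hAexp a ha, map_one]

/-- A metacyclic subgroup of exponent `p` has order at most `p ^ 2`. -/
theorem card_le_of_exponent_of_metacyclic {R : Type*} [Group R] [Finite R]
    (hm : Cfsg.IsMetacyclic R) (K : Subgroup R) (hK : ∀ k ∈ K, k ^ p = 1) :
    Nat.card K ≤ p ^ 2 := by
  obtain ⟨N, hN, hNc, hQc⟩ := hm
  have hbound : ∀ {H : Type _} [Group H] [Finite H] (A : Subgroup H), IsCyclic H →
      (∀ a ∈ A, a ^ p = 1) → Nat.card A ≤ p := by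
    intro H _ _ A hH hA
    haveI := hH
    obtain ⟨a, ha⟩ := IsCyclic.exists_generator (α := A)
    rw [← orderOf_eq_card_of_forall_mem_zpowers ha]
    exact Nat.le_of_dvd hp.out.pos (orderOf_dvd_of_pow_eq_one (Subtype.ext (hA _ a.2)))
  set π := QuotientGroup.mk' N with hπ
  have h1 : Nat.card (K.map π) ≤ p := by
    haveI := hQc
    refine hbound _ hQc ?_
    rintro _ ⟨k, hk, rfl⟩
    rw [← map_pow, hK k hk, map_one]
  have h2 : Nat.card ((K ⊓ N).subgroupOf N) ≤ p := by
    refine hbound _ hNc fun a ha => ?_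
    exact Subtype.ext (by push_cast; exact hK _ ha.1)
  rw [Nat.card_congr (subgroupOfEquivOfLe inf_le_right).toEquiv] at h2
  have h3 : Nat.card K = Nat.card (K.map π) * Nat.card (K ⊓ N : Subgroup R) := by
    have := (π.subgroupMap K).ker.index_mul_card
    rw [index_ker, MonoidHom.range_eq_top.2 (π.subgroupMap_surjective K), Subgroup.card_top] at this
    rw [← this]
    congr 1
    refine Nat.card_congr
      { toFun := fun a => ⟨a.1.1, a.1.2, ?_⟩
        invFun := fun a => ⟨⟨a.1, a.2.1⟩, ?_⟩
        left_inv := fun a => rfl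
        right_inv := fun a => rfl }
    · have := congrArg Subtype.val (MonoidHom.mem_ker.1 a.2)
      exact (QuotientGroup.eq_one_iff _).1 this
    · exact MonoidHom.mem_ker.2 (Subtype.ext ((QuotientGroup.eq_one_iff _).2 a.2.2))
  rw [h3, sq]
  exact Nat.mul_le_mul h1 h2

/-- A Sylow subgroup of `Sym(p ^ 2)` is not metacyclic, so neither is a group mapping onto it. -/
theorem noWreathQuotient_of_metacyclic (hp2 : p ≠ 2) {R : Type*} [Group R] [Finite R]
    (hm : Cfsg.IsMetacyclic R) : YoshidaTransfer.NoWreathQuotient p R := by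
  intro P f hf
  have hPm : Cfsg.IsMetacyclic (P : Subgroup (Equiv.Perm (Fin (p ^ 2)))) := by
    obtain ⟨N, hN, hNc, hQc⟩ := hm
    haveI := hN
    haveI : (N.map f).Normal := hN.map f hf
    refine ⟨N.map f, inferInstance, ?_, ?_⟩
    · haveI := hNc
      exact isCyclic_of_surjective (f.subgroupMap N) (f.subgroupMap_surjective N)
    · haveI := hQc
      refine isCyclic_of_surjective (QuotientGroup.map N (N.map f) f (le_comap_map f N)) ?_
      intro q
      obtain ⟨q, rfl⟩ := QuotientGroup.mk_surjective q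
      obtain ⟨r, rfl⟩ := hf q
      exact ⟨r, rfl⟩
  -- the `p` disjoint `p`-cycles
  haveI : NeZero p := ⟨hp.out.ne_zero⟩
  let e : Fin p × ZMod p ≃ Fin (p ^ 2) :=
    ((Equiv.refl (Fin p)).prodCongr (ZMod.finEquiv p).symm.toEquiv).trans
      (finProdFinEquiv.trans (finCongr (sq p).symm))
  let c : Multiplicative (Fin p → ZMod p) →* Equiv.Perm (Fin (p ^ 2)) :=
    { toFun := fun v => e.permCongr (Equiv.prodCongrRight fun i => Equiv.addRight (v.toAdd i))
      map_one' := by
        apply Equiv.ext
        intro y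
        rw [Equiv.permCongr_apply]
        show e _ = y
        conv_rhs => rw [← e.apply_symm_apply y]
        congr 1
        ext <;> simp
      map_mul' := fun v w => by
        apply Equiv.ext
        intro y
        simp only [Equiv.permCongr_apply, Equiv.Perm.mul_apply, Equiv.symm_apply_apply]
        congr 1
        ext <;> simp [add_comm, add_left_comm] }
  have hc : Function.Injective c := by
    intro v w h
    have h' := e.permCongr.injective h
    refine Multiplicative.toAdd.injective (funext fun i => ?_)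
    simpa using congrArg (fun π : Equiv.Perm (Fin p × ZMod p) => (π (i, 0)).2) h'
  have hcard : Nat.card c.range = p ^ p := by
    rw [← Nat.card_congr (MonoidHom.ofInjective hc).toEquiv]
    simp [Nat.card_fun, Nat.card_zmod]
  have hA : IsPGroup p c.range := IsPGroup.of_card hcard
  obtain ⟨Q, hQ⟩ := hA.exists_le_sylow
  obtain ⟨g, hg⟩ := MulAction.exists_smul_eq (Equiv.Perm (Fin (p ^ 2))) Q P
  set A := c.range.map (MulAut.conj g).toMonoidHom with hAdef
  have hAP : A ≤ (P : Subgroup _) := by
    rw [← hg]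
    exact map_mono hQ
  have h := card_le_of_exponent_of_metacyclic (p := p) hPm (A.subgroupOf P) (by
    rintro a ⟨b, ⟨v, rfl⟩, hv⟩
    refine Subtype.ext ?_
    push_cast
    rw [← show (MulAut.conj g).toMonoidHom (c v) = (a : Equiv.Perm _) from hv, ← map_pow,
      ← map_pow]
    have : v ^ p = 1 := Multiplicative.toAdd.injective (funext fun i => by simp)
    rw [this, map_one, map_one])
  rw [Nat.card_congr (subgroupOfEquivOfLe hAP).toEquiv, hAdef,
    card_map_of_injective (MulAut.conj g).injective, hcard] at h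
  have h3 : p ^ 3 ≤ p ^ p := Nat.pow_le_pow_right hp.out.pos (by have := hp.out.two_le; omega)
  have h4 : p ^ 2 < p ^ 3 := Nat.pow_lt_pow_right hp.out.one_lt (by norm_num)
  omega

/-- A central subgroup of order at most `p` inside a subgroup of `S`. -/
theorem mem_center_isolated (hrank : Cfsg.PRankLE p 2 G) (S : Sylow p G) {x a e : G}
    (hx : orderOf x = p) (hcen : ∀ b ∈ (S : Subgroup G), Commute b x)
    (ha : a ∈ (S : Subgroup G)) (hap : a ^ p = 1)
    (hnc : ∃ b ∈ (S : Subgroup G), a * b ≠ b * a)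
    (he : e ∈ (S : Subgroup G)) (hec : ∀ b ∈ (S : Subgroup G), Commute e b) (hep : e ^ p = 1) :
    e ∈ zpowers x := by
  by_contra hne
  have hxp : x ^ p = 1 := hx ▸ pow_orderOf_eq_one x
  have hx1 : x ≠ 1 := fun h => by rw [h, orderOf_one] at hx; exact hp.out.one_lt.ne hx
  obtain ⟨i, j, hij⟩ := exists_pow_mul_pow hrank hxp hep hap (hcen e he).symm (hcen a ha)
    (hec a ha).symm hx1 hne
  obtain ⟨b, hb, hab⟩ := hnc
  apply hab
  rw [hij]
  exact ((((hcen b hb).zpow_right i)).symm.mul_left (((hec b hb).zpow_left j))).eq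

/-- The order of a group generated by three elements in a factorised position. -/
theorem card_closure_triple_le {H : Type*} [Group H] [Finite H] {X Y z : H} (hYz : Y * z = z * Y)
    (h1 : X⁻¹ * Y * X ∈ closure ({Y, z} : Set H)) (h2 : X⁻¹ * z * X ∈ closure ({Y, z} : Set H)) :
    Nat.card (closure ({X, Y, z} : Set H)) ≤ orderOf Y * orderOf z * orderOf X := by
  set K := closure ({Y, z} : Set H) with hK
  have hKsup : K = zpowers Y ⊔ zpowers z := by
    rw [hK, show ({Y, z} : Set H) = {Y} ∪ {z} from Set.insert_eq Y {z}, Subgroup.closure_union,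
      zpowers_eq_closure, zpowers_eq_closure]
  have hzn : zpowers z ≤ Subgroup.normalizer (zpowers Y : Set H) := by
    refine le_trans ?_ (centralizer_le_normalizer _)
    rw [zpowers_le, mem_centralizer_iff]
    rintro _ ⟨j, rfl⟩
    exact ((show Commute Y z from hYz).zpow_left j).eq
  have hKc : Nat.card K ≤ orderOf Y * orderOf z := by
    rw [← Nat.card_zpowers, ← Nat.card_zpowers, hKsup]
    have h3 := Subgroup.coe_mul_of_right_le_normalizer_left (zpowers Y) (zpowers z) hzn
    calc Nat.card (zpowers Y ⊔ zpowers z : Subgroup H)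
        = Nat.card ((zpowers Y : Set H) * (zpowers z : Set H) : Set H) :=
          congrArg (fun s : Set H => Nat.card s) h3
      _ ≤ _ := Set.natCard_mul_le
  have hXK : X ∈ Subgroup.normalizer (K : Set H) := by
    rw [← inv_mem_iff, mem_normalizer_iff_map_conj_eq]
    refine eq_of_le_of_card_ge ?_ (by rw [card_map_of_injective (MulAut.conj X⁻¹).injective])
    rw [hK, MonoidHom.map_closure, closure_le]
    rintro _ ⟨u, (rfl | rfl), rfl⟩ <;> simpa
  have hsup : closure ({X, Y, z} : Set H) = K ⊔ zpowers X := by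
    rw [hK, zpowers_eq_closure, ← Subgroup.closure_union]
    congr 1
    ext u
    simp [or_comm, or_left_comm]
  refine le_trans ?_ (Nat.mul_le_mul_right _ hKc)
  rw [← Nat.card_zpowers, hsup]
  have h3 := Subgroup.coe_mul_of_right_le_normalizer_left K (zpowers X) (zpowers_le.2 hXK)
  calc Nat.card (K ⊔ zpowers X : Subgroup H)
      = Nat.card ((K : Set H) * (zpowers X : Set H) : Set H) :=
        congrArg (fun s : Set H => Nat.card s) h3
    _ ≤ _ := Set.natCard_mul_le

/-- A group with commuting generators is commutative. -/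
theorem commute_of_generators {H : Type*} [Group H] {T : Set H} (hT : closure T = ⊤)
    (h : ∀ a ∈ T, ∀ b ∈ T, a * b = b * a) : IsMulCommutative H := by
  haveI := isMulCommutative_closure h
  refine ⟨⟨fun a b => ?_⟩⟩
  exact congrArg Subtype.val (mul_comm' (⟨a, hT ▸ mem_top a⟩ : closure T) ⟨b, hT ▸ mem_top b⟩)

/-- The standing hypotheses: a perfect group with an isolated element `x` of order `p` in the
Sylow subgroup `S`, of `p`-rank at most two. -/
structure Hyp (S : Sylow p G) (x : G) : Prop where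
  odd : p ≠ 2
  perf : _root_.commutator G = ⊤
  rank : Cfsg.PRankLE p 2 G
  ord : orderOf x = p
  mem : x ∈ (S : Subgroup G)
  iso : Cfsg.IsIsolated x

namespace Hyp

variable {S : Sylow p G} {x : G} (h : Hyp S x)
include h

theorem cen : ∀ a ∈ (S : Subgroup G), Commute a x :=
  commute_of_isPGroup h.iso S.isPGroup' h.mem

theorem ne_one : x ≠ 1 := fun e => by
  have := h.ord
  rw [e, orderOf_one] at this
  exact hp.out.one_lt.ne this

theorem pow_eq_one : x ^ p = 1 := h.ord ▸ pow_orderOf_eq_one x

theorem zpowers_le_sylow : zpowers x ≤ (S : Subgroup G) := zpowers_le.2 h.mem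

theorem weaklyClosed_self : Cfsg.IsWeaklyClosed (S : Subgroup G) (S : Subgroup G) := by
  refine ⟨le_rfl, fun g hg => eq_of_le_of_card_ge hg ?_⟩
  rw [card_map_of_injective (MulAut.conj g).injective]

theorem residual_self (hcl : ∀ u ∈ (S : Subgroup G), ∀ z ∈ (S : Subgroup G),
      (fun y : G => y⁻¹ * z⁻¹ * y * z) ((fun y : G => y⁻¹ * z⁻¹ * y * z) u) ∈ zpowers x) :
    Cfsg.pResidual p (Subgroup.normalizer ((S : Subgroup G) : Set G)) ⊔
      (zpowers x).subgroupOf (Subgroup.normalizer ((S : Subgroup G) : Set G)) = ⊤ :=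
  pResidual_normalizer_sup h.odd h.perf S h.mem h.iso h.cen h.weaklyClosed_self h.mem hcl

theorem normalizer_centralizes : ∀ n ∈ Subgroup.normalizer ((S : Subgroup G) : Set G),
    Commute n x := fun n hn =>
  (mem_centralizer_singleton_iff.1
    (normalizer_le_centralizer_isolated h.iso h.cen le_rfl h.mem hn))

/-- Elements of a central subgroup of `S` are fixed by the normalizer of `S`. -/
theorem fix_central {a : G} (ha : a ∈ (S : Subgroup G)) (hap : a ^ p = 1)
    (hnc : ∃ b ∈ (S : Subgroup G), a * b ≠ b * a) {z : G} (hz : z ∈ (S : Subgroup G))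
    (hzc : ∀ b ∈ (S : Subgroup G), Commute z b) :
    ∀ n ∈ Subgroup.normalizer ((S : Subgroup G) : Set G), n * z * n⁻¹ = z := by
  set M := Subgroup.normalizer ((S : Subgroup G) : Set G) with hM
  have hSM : (S : Subgroup G) ≤ M := le_normalizer
  set W := (S : Subgroup G) ⊓ centralizer ((S : Subgroup G) : Set G) with hW
  have hWmem : ∀ w, w ∈ W ↔ w ∈ (S : Subgroup G) ∧ ∀ b ∈ (S : Subgroup G), Commute w b :=
    fun w => ⟨fun hw => ⟨hw.1, fun b hb => (mem_centralizer_iff.1 hw.2 b hb).symm⟩,
      fun hw => ⟨hw.1, mem_centralizer_iff.2 fun b hb => (hw.2 b hb).symm.eq⟩⟩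
  have hMb : M ≤ Subgroup.normalizer ((⊥ : Subgroup G) : Set G) := by
    intro m _
    rw [mem_normalizer_iff]
    simp
  have hgen : ∀ (N : Subgroup M), Cfsg.pResidual p M ≤ N → (S : Subgroup G).subgroupOf M ≤ N →
      N = ⊤ := by
    intro N h1 h2
    rw [eq_top_iff, ← Transfer.pResidual_sup_sylow (S.subtype hSM)]
    exact sup_le h1 h2
  have key := hgen ((fixMod hMb z).subgroupOf M) ?_ ?_
  · intro n hn
    have h1 : (⟨n, hn⟩ : M) ∈ (fixMod hMb z).subgroupOf M := key ▸ mem_top _
    exact mul_inv_eq_one.1 (mem_bot.1 h1.2)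
  · refine Transfer.pResidual_le_iff.2 fun n hn => ⟨n.2, mem_bot.2 (mul_inv_eq_one.2 ?_)⟩
    have hconj : ∀ w ∈ W, (n : G) * w * (n : G)⁻¹ ∈ W := by
      intro w hw
      rw [hWmem] at hw ⊢
      refine ⟨(mem_normalizer_iff.1 n.2 w).1 hw.1, fun b hb => ?_⟩
      have hb' : (n : G)⁻¹ * b * n ∈ (S : Subgroup G) := by
        have := (mem_normalizer_iff.1 (inv_mem n.2) b).1 hb
        rwa [inv_inv] at this
      have h1 := (hw.2 _ hb').map (MulAut.conj (n : G))
      simpa [MulAut.conj_apply, mul_assoc] using h1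
    have hfix := ThompsonA.commute_of_commute_omega (a := (n : G))
      (by rw [orderOf_coe]; exact hn) (D := W) (S.isPGroup'.to_le inf_le_left)
      (fun u hu v hv => ((hWmem u).1 hu).2 v hv.1) hconj (fun e he hep => by
        obtain ⟨i, rfl⟩ := mem_center_isolated h.rank S h.ord h.cen ha hap hnc he.1
          ((hWmem e).1 he).2 hep
        exact ((h.normalizer_centralizes n n.2).zpow_right i).eq)
      z ((hWmem z).2 ⟨hz, hzc⟩)
    exact mul_inv_eq_iff_eq_mul.2 hfix
  · intro b hb
    refine ⟨b.2, mem_bot.2 (mul_inv_eq_one.2 ?_)⟩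
    exact mul_inv_eq_iff_eq_mul.2 (hzc b hb).symm.eq

/-- The metacyclic case is impossible. -/
theorem not_metacyclic : ¬ Cfsg.IsMetacyclic (S : Subgroup G) := by
  intro hm
  set M := Subgroup.normalizer ((S : Subgroup G) : Set G) with hM
  have hSM : (S : Subgroup G) ≤ M := le_normalizer
  have hres := YoshidaTransfer.pResidual_normalizer_eq S (noWreathQuotient_of_metacyclic h.odd hm)
  rw [pResidual_eq_top_of_perfect S (h.perf ▸ le_top), top_subgroupOf] at hres
  haveI : ((S : Subgroup G).subgroupOf M).Normal := normal_in_normalizer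
  have hcopSZ : Nat.Coprime (Nat.card ((S : Subgroup G).subgroupOf M))
      ((S : Subgroup G).subgroupOf M).index := (S.subtype hSM).card_coprime_index
  obtain ⟨A0, hA0⟩ := exists_right_complement'_of_coprime hcopSZ
  set A := A0.map M.subtype with hA
  have hAM : A ≤ M := map_subtype_le _
  have hAcop : (Nat.card A).Coprime p := by
    rw [hA, card_map_of_injective M.subtype_injective, ← hA0.symm.index_eq_card]
    exact Nat.Coprime.symm (hp.out.coprime_iff_not_dvd.2 (S.subtype hSM).not_dvd_index)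
  obtain ⟨hRab, hsup, hinf, -⟩ :=
    Cfsg.Agent.S1447.result p h.odd (S : Subgroup G) A S.isPGroup' hm hAM hAcop
  set T := ⁅(S : Subgroup G), A⁆ with hT
  have hTS : T ≤ (S : Subgroup G) := hsup ▸ le_sup_left
  have hxA : x ∈ (S : Subgroup G) ⊓ centralizer (A : Set G) :=
    ⟨h.mem, mem_centralizer_iff.2 fun a ha => (h.normalizer_centralizes a (hAM ha)).eq⟩
  have hne : T ≠ (S : Subgroup G) := fun he => h.ne_one (mem_bot.1 (hinf ▸
    ⟨he ▸ h.mem, hxA⟩ : x ∈ (⊥ : Subgroup G)))
  -- a maximal subgroup above `[S, A]`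
  have hne' : T.subgroupOf (S : Subgroup G) ≠ ⊤ := fun he =>
    hne (le_antisymm hTS (subgroupOf_eq_top.1 he))
  obtain ⟨K, hK, hTK⟩ := (eq_top_or_exists_le_coatom _).resolve_left hne'
  obtain ⟨hKn, hKi⟩ := Nilp.index_coatom_of_isPGroup S.isPGroup' hK
  haveI := hKn
  have hcomK : ∀ a b : (S : Subgroup G), a * b * a⁻¹ * b⁻¹ ∈ K := by
    intro a b
    rw [← QuotientGroup.eq_one_iff]
    haveI : IsCyclic ((S : Subgroup G) ⧸ K) :=
      isCyclic_of_prime_card (p := p) ((Subgroup.index_eq_card K).symm.trans hKi)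
    obtain ⟨g, hg⟩ := IsCyclic.exists_generator (α := (S : Subgroup G) ⧸ K)
    obtain ⟨i, hi⟩ := hg (a : (S : Subgroup G) ⧸ K)
    obtain ⟨j, hj⟩ := hg (b : (S : Subgroup G) ⧸ K)
    simp only at hi hj
    simp only [QuotientGroup.mk_mul, QuotientGroup.mk_inv, ← hi, ← hj]
    group
  set K' := K.map (S : Subgroup G).subtype with hK'
  -- the smallest normal subgroup of the normalizer containing both commutators
  set D := ⁅(S : Subgroup G), (S : Subgroup G)⁆ ⊔ T with hD
  have hTK' : T ≤ K' := fun t ht => ⟨⟨t, hTS ht⟩, hTK ht, rfl⟩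
  have hDK : D ≤ K' := by
    refine sup_le (commutator_le.2 fun a ha b hb => ?_) hTK'
    exact ⟨_, hcomK ⟨a, ha⟩ ⟨b, hb⟩, by simp [commutatorElement_def]⟩
  have hconjT : ∀ m ∈ (S : Subgroup G), ∀ t ∈ T, m * t * m⁻¹ ∈ D := by
    intro m hm t ht
    have h1 : ⁅m, t⁆ ∈ D := mem_sup_left (commutator_mem_commutator hm (hTS ht))
    rw [show m * t * m⁻¹ = ⁅m, t⁆ * t by rw [commutatorElement_def]; group]
    exact mul_mem h1 (mem_sup_right ht)
  have hMD : M ≤ Subgroup.normalizer (D : Set G) := by
    have hS' : (S : Subgroup G) ≤ Subgroup.normalizer (D : Set G) := by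
      refine Subgroup.le_normalizer_iff.2 fun m hm d hd => ?_
      have hle : D ≤ D.comap (MulAut.conj m).toMonoidHom := by
        refine sup_le ?_ fun t ht => hconjT m hm t ht
        rw [← map_le_iff_le_comap, map_commutator]
        refine (commutator_mono ?_ ?_).trans le_sup_left <;>
        · rintro _ ⟨a, ha, rfl⟩
          exact mul_mem (mul_mem hm ha) (inv_mem hm)
      exact hle hd
    have hA' : A ≤ Subgroup.normalizer (D : Set G) := by
      refine Subgroup.le_normalizer_iff.2 fun m hm d hd => ?_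
      have hSm : (S : Subgroup G).map (MulAut.conj m).toMonoidHom = S :=
        mem_normalizer_iff_map_conj_eq.1 (hAM hm)
      have hAm : A.map (MulAut.conj m).toMonoidHom = A :=
        mem_normalizer_iff_map_conj_eq.1 (le_normalizer hm)
      have hle : D.map (MulAut.conj m).toMonoidHom = D := by
        rw [hD, hT, Subgroup.map_sup, map_commutator, map_commutator, hSm, hAm]
      exact hle.le (mem_map_of_mem _ hd)
    intro n hn
    obtain ⟨⟨⟨s, hs⟩, ⟨a, ha⟩⟩, hsa⟩ := hA0.2 ⟨n, hn⟩
    have : n = (s : G) * a := congrArg Subtype.val hsa.symm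
    rw [this]
    exact mul_mem (hS' hs) (hA' ⟨a, ha, rfl⟩)
  obtain ⟨s, -, hs⟩ := SetLike.exists_of_lt (lt_top_iff_ne_top.2 hK.1)
  have hsD : (s : G) ∉ D := fun hc => by
    obtain ⟨k, hk, hks⟩ := hDK hc
    exact hs (Subtype.ext hks ▸ hk)
  refine false_of_normalizer S hSM (E := ⊥) ?_ D bot_le hMD s.2 hsD ?_
    (fun a ha b hb => mem_sup_left (commutator_mem_commutator ha hb))
  · rw [← hres, top_sup_eq]
  · intro n hn
    obtain ⟨⟨⟨m, hm'⟩, ⟨a, ha⟩⟩, hma⟩ := hA0.2 ⟨n, hn⟩
    have hn' : n = (m : G) * a := congrArg Subtype.val hma.symm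
    have hle : (n : G) ∈ fixMod hMD (s : G) := by
      rw [hn']
      refine mul_mem ⟨m.2, mem_sup_left ?_⟩ ⟨a.2, mem_sup_right ?_⟩
      · exact commutator_mem_commutator hm' s.2
      · rw [hT, commutator_comm]
        exact commutator_mem_commutator ⟨a, ha, rfl⟩ s.2
    exact hle.2

/-- Generators of the shapes occurring in Blackburn's classification. -/
theorem gens_false {n : ℕ} (hn : Nat.card (S : Subgroup G) = p ^ n) (hn4 : 4 ≤ n) {X Y z : G}
    (hgen : closure ({X, Y, z} : Set G) = (S : Subgroup G)) (hXp : X ^ p = 1) (hYp : Y ^ p = 1)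
    (hzo : z ^ p ^ (n - 2) = 1) (hYz : Y * z = z * Y) {s : ℕ} (hs : ¬ p ∣ s)
    (hXY : X⁻¹ * Y * X = Y * z ^ (s * p ^ (n - 3))) (hXz : X⁻¹ * z * X = z ∨ X⁻¹ * z * X = Y * z) :
    False := by
  set M := Subgroup.normalizer ((S : Subgroup G) : Set G) with hM
  have hSM : (S : Subgroup G) ≤ M := le_normalizer
  have hXS : X ∈ (S : Subgroup G) := hgen ▸ subset_closure (by simp)
  have hYS : Y ∈ (S : Subgroup G) := hgen ▸ subset_closure (by simp)
  have hzS : z ∈ (S : Subgroup G) := hgen ▸ subset_closure (by simp)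
  have hcen_of : ∀ c : G, Commute c X → Commute c Y → Commute c z →
      ∀ b ∈ (S : Subgroup G), Commute c b := by
    intro c h1 h2 h3 b hb
    have hle : (S : Subgroup G) ≤ centralizer ({c} : Set G) := by
      rw [← hgen, closure_le]
      rintro u (rfl | rfl | rfl) <;> refine mem_centralizer_singleton_iff.2 ?_
      exacts [h1.symm.eq, h2.symm.eq, h3.symm.eq]
    exact (mem_centralizer_singleton_iff.1 (hle hb)).symm
  have hzp : Commute (z ^ p) X := by
    have h1 : X⁻¹ * z ^ p * X = z ^ p := by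
      have h2 : (X⁻¹ * z * X) ^ p = X⁻¹ * z ^ p * X := by
        have := conj_pow (a := X⁻¹) (b := z) (i := p)
        rwa [inv_inv] at this
      rcases hXz with e | e <;> rw [e] at h2
      · exact h2.symm
      · rw [(show Commute Y z from hYz).mul_pow, hYp, one_mul] at h2
        exact h2.symm
    calc z ^ p * X = X * (X⁻¹ * z ^ p * X) := by group
      _ = X * z ^ p := by rw [h1]
  have hzpc := hcen_of (z ^ p) hzp ((show Commute Y z from hYz).symm.pow_left p)
    ((Commute.refl z).pow_left p)
  set x0 := z ^ p ^ (n - 3) with hx0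
  have hx0zp : x0 = (z ^ p) ^ p ^ (n - 4) := by
    rw [hx0, ← pow_mul, ← pow_succ', show n - 4 + 1 = n - 3 by omega]
  have hx0c : ∀ b ∈ (S : Subgroup G), Commute x0 b := fun b hb => by
    rw [hx0zp]; exact (hzpc b hb).pow_left _
  have hx0p : x0 ^ p = 1 := by
    rw [hx0, ← pow_mul, ← pow_succ, show n - 3 + 1 = n - 2 by omega, hzo]
  -- counting
  have hcount : p ^ (n - 2) ≤ Nat.card (zpowers z) := by
    have hle := card_closure_triple_le (X := X) (Y := Y) (z := z) hYz
      (by rw [hXY]; exact mul_mem (subset_closure (by simp)) (pow_mem (subset_closure (by simp)) _))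
      (by rcases hXz with e | e <;> rw [e]
          exacts [subset_closure (by simp), mul_mem (subset_closure (by simp)) (subset_closure (by simp))])
    rw [hgen, hn] at hle
    have hX1 : orderOf X ≤ p := Nat.le_of_dvd hp.out.pos (orderOf_dvd_of_pow_eq_one hXp)
    have hY1 : orderOf Y ≤ p := Nat.le_of_dvd hp.out.pos (orderOf_dvd_of_pow_eq_one hYp)
    rw [Nat.card_zpowers]
    refine Nat.le_of_mul_le_mul_left (?_ : p ^ 2 * p ^ (n - 2) ≤ p ^ 2 * orderOf z)
      (pow_pos hp.out.pos 2)
    rw [← pow_add, show 2 + (n - 2) = n by omega, sq]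
    calc p ^ n ≤ orderOf Y * orderOf z * orderOf X := hle
      _ ≤ p * orderOf z * p := Nat.mul_le_mul (Nat.mul_le_mul_right _ hY1) hX1
      _ = p * p * orderOf z := by ring
  have hzord : orderOf z = p ^ (n - 2) := by
    rw [Nat.card_zpowers] at hcount
    exact le_antisymm (Nat.le_of_dvd (pow_pos hp.out.pos _) (orderOf_dvd_of_pow_eq_one hzo)) hcount
  have hx0n : x0 ≠ 1 := fun e => by
    have h1 := orderOf_dvd_of_pow_eq_one e
    rw [hzord, Nat.pow_dvd_pow_iff_le_right hp.out.one_lt] at h1
    omega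
  have hx0s : x0 ^ s ≠ 1 := fun e => by
    have h1 := orderOf_dvd_of_pow_eq_one e
    rw [orderOf_eq_prime hx0p hx0n] at h1
    exact hs h1
  have hXYx : X⁻¹ * Y * X = Y * x0 ^ s := by rw [hXY, hx0, ← pow_mul, mul_comm]
  have hncXY : X * Y ≠ Y * X := fun e => hx0s (by
    rw [mul_assoc, ← e, inv_mul_cancel_left] at hXYx
    exact left_eq_mul.1 hXYx)
  have hx0x : x0 ∈ zpowers x := mem_center_isolated h.rank S h.ord h.cen hXS hXp
    ⟨Y, hYS, hncXY⟩ (by rw [hx0]; exact pow_mem hzS _) hx0c hx0p
  have hfixz : ∀ {w : G}, w ∈ (S : Subgroup G) → (∀ b ∈ (S : Subgroup G), Commute w b) →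
      ∀ m ∈ M, m * w * m⁻¹ = w := fun hw hwc => h.fix_central hXS hXp ⟨Y, hYS, hncXY⟩ hw hwc
  set D := ⁅(S : Subgroup G), (S : Subgroup G)⁆ ⊔ zpowers x with hD
  have hMD : M ≤ Subgroup.normalizer (D : Set G) := by
    intro m hm
    rw [mem_normalizer_iff_map_conj_eq, hD, Subgroup.map_sup, map_commutator,
      mem_normalizer_iff_map_conj_eq.1 hm, MonoidHom.map_zpowers]
    congr 2
    show m * x * m⁻¹ = x
    rw [(h.normalizer_centralizes m hm).eq, mul_inv_cancel_right]
  -- a small subgroup containing the commutators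
  set B := closure ({Y, x} : Set G) with hB
  have hYx : Commute Y x := h.cen Y hYS
  have hBp : ∀ b ∈ B, b ^ p = 1 := by
    have hBc : IsMulCommutative B := isMulCommutative_closure (by
      rintro u (rfl | rfl) v (rfl | rfl)
      exacts [rfl, hYx.eq, hYx.symm.eq, rfl])
    intro b hb
    induction hb using closure_induction with
    | mem u hu => rcases hu with rfl | rfl
                  exacts [hYp, h.pow_eq_one]
    | one => simp
    | mul u v hu hv h1 h2 =>
      rw [(show Commute u v from congrArg Subtype.val (hBc.is_comm.comm ⟨u, hu⟩ ⟨v, hv⟩)).mul_pow,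
        h1, h2, one_mul]
    | inv u _ h1 => simp [h1]
  have hxB : x ∈ B := subset_closure (by simp)
  have hYB : Y ∈ B := subset_closure (by simp)
  have hx0B : x0 ∈ B := zpowers_le.2 hxB hx0x
  have hzB : z ∉ B := fun hc => by
    have h1 := orderOf_dvd_of_pow_eq_one (hBp z hc)
    rw [hzord] at h1
    have := Nat.le_of_dvd hp.out.pos h1
    have : p ^ 2 ≤ p ^ (n - 2) := Nat.pow_le_pow_right hp.out.pos (by omega)
    have : p < p ^ 2 := by
      nlinarith [hp.out.one_lt]
    omega
  have hXYc : ∀ (t : ℤ), X * Y ^ t * X⁻¹ = Y ^ t * ((x0 ^ s) ^ t)⁻¹ := by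
    have h1 : X * Y * X⁻¹ = Y * (x0 ^ s)⁻¹ := by
      have h2 : Y = X * (Y * x0 ^ s) * X⁻¹ := by rw [← hXYx]; group
      have h3 : Commute (x0 ^ s) X⁻¹ := ((hx0c X hXS).pow_left s).inv_right
      have h4 : Y = X * Y * X⁻¹ * x0 ^ s := by
        calc Y = X * (Y * x0 ^ s) * X⁻¹ := h2
          _ = X * Y * (x0 ^ s * X⁻¹) := by group
          _ = X * Y * (X⁻¹ * x0 ^ s) := by rw [h3.eq]
          _ = X * Y * X⁻¹ * x0 ^ s := by group
      rw [eq_mul_inv_iff_mul_eq]
      exact h4.symm
    intro t
    rw [← conj_zpow, h1, (((hx0c Y hYS).pow_left s).symm.inv_right).mul_zpow, inv_zpow]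
  have hBS : (S : Subgroup G) ≤ Subgroup.normalizer (B : Set G) := by
    rw [← hgen, closure_le]
    intro u hu
    have huS : u ∈ (S : Subgroup G) := hgen ▸ subset_closure hu
    refine mem_normalizer_iff_map_conj_eq.2 (eq_of_le_of_card_ge ?_
      (by rw [card_map_of_injective (MulAut.conj u).injective]))
    rw [hB, MonoidHom.map_closure, closure_le]
    rintro _ ⟨w, hw, rfl⟩
    rw [Set.mem_insert_iff, Set.mem_singleton_iff] at hw
    rcases hw with e' | e' <;> rw [e']
    · rcases hu with e | e | e <;> rw [e]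
      · have := hXYc 1
        rw [zpow_one, zpow_one] at this
        show X * Y * X⁻¹ ∈ B
        rw [this]
        exact mul_mem hYB (inv_mem (pow_mem hx0B _))
      · show Y * Y * Y⁻¹ ∈ B
        simpa using hYB
      · show z * Y * z⁻¹ ∈ B
        rw [show z * Y = Y * z from hYz.symm, mul_inv_cancel_right]
        exact hYB
    · show u * x * u⁻¹ ∈ B
      rw [(h.cen u huS).eq, mul_inv_cancel_right]
      exact hxB
  have hXzB : X * z * X⁻¹ * z⁻¹ ∈ B := by
    rcases hXz with e | e
    · have h1 : X * z = z * X := by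
        conv_lhs => rw [← e]
        group
      rw [h1]
      simp
    · have h1 : z = X * Y * z * X⁻¹ := by rw [mul_assoc X Y z, ← e]; group
      have h2 : X * z * X⁻¹ = (X * Y * X⁻¹)⁻¹ * z := by
        conv_rhs => rw [h1]
        group
      rw [h2, mul_assoc, mul_inv_cancel, mul_one]
      have := hXYc 1
      rw [zpow_one, zpow_one] at this
      rw [this]
      exact inv_mem (mul_mem hYB (inv_mem (pow_mem hx0B _)))
  have hcommB : ∀ a ∈ (S : Subgroup G), ∀ b ∈ (S : Subgroup G), a * b * a⁻¹ * b⁻¹ ∈ B := by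
    refine comm_mem_of_generators hgen hBS ?_
    have e1 : X * Y * X⁻¹ * Y⁻¹ ∈ B := by
      have := hXYc 1
      rw [zpow_one, zpow_one] at this
      rw [this]
      exact mul_mem (mul_mem hYB (inv_mem (pow_mem hx0B _))) (inv_mem hYB)
    have e2 : Y * z * Y⁻¹ * z⁻¹ ∈ B := by rw [hYz]; simp
    rintro a (rfl | rfl | rfl) b (rfl | rfl | rfl)
    · simp
    · exact e1
    · exact hXzB
    · have := inv_mem e1
      simpa [mul_assoc] using this
    · simp
    · exact e2
    · have := inv_mem hXzB
      simpa [mul_assoc] using this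
    · have := inv_mem e2
      simpa [mul_assoc] using this
    · simp
  have hDB : D ≤ B := sup_le (commutator_le.2 fun a ha b hb => hcommB a ha b hb)
    (zpowers_le.2 hxB)
  have hcl : ∀ u ∈ (S : Subgroup G), ∀ w ∈ (S : Subgroup G),
      (fun y : G => y⁻¹ * w⁻¹ * y * w) ((fun y : G => y⁻¹ * w⁻¹ * y * w) u) ∈ zpowers x := by
    have hBcomm : ∀ b ∈ B, ∀ w ∈ (S : Subgroup G), b * w * b⁻¹ * w⁻¹ ∈ zpowers x := by
      have hXn : (S : Subgroup G) ≤ Subgroup.normalizer (zpowers x : Set G) := fun u hu => by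
        rw [mem_normalizer_iff_map_conj_eq, MonoidHom.map_zpowers]
        congr 1
        show u * x * u⁻¹ = x
        rw [(h.cen u hu).eq, mul_inv_cancel_right]
      have hgens : ∀ w ∈ ({X, Y, z} : Set G), Y * w * Y⁻¹ * w⁻¹ ∈ zpowers x := by
        rintro w (e | e | e) <;> rw [e]
        · have h1 := hXYc 1
          rw [zpow_one, zpow_one] at h1
          have h2 : Y * X * Y⁻¹ * X⁻¹ = Y * (X * Y * X⁻¹)⁻¹ := by group
          rw [h2, h1, mul_inv_rev, inv_inv, ← mul_assoc,
            ((hx0c Y hYS).pow_left s).symm.eq, mul_inv_cancel_right]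
          exact pow_mem hx0x s
        · simp
        · rw [hYz]; simp
      intro b hb w hw
      induction hb using closure_induction with
      | mem u hu =>
        rcases hu with rfl | rfl
        · have hw' : w⁻¹ * (u * w * u⁻¹) ∈ zpowers x := by
            have hle : (S : Subgroup G) ≤ fixMod hXn u := by
              conv_lhs => rw [← hgen]
              rw [closure_le]
              intro t ht
              refine ⟨hgen ▸ subset_closure ht, ?_⟩
              have := inv_mem (hgens t ht)
              simpa [mul_assoc] using this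
            have := (hle (inv_mem hw)).2
            simpa [mul_assoc] using this
          have := (mem_normalizer_iff.1 (hXn hw) _).1 hw'
          simpa [mul_assoc] using this
        · rw [((h.cen w hw).symm).eq]
          simp
      | one => simp
      | mul u v _ _ h1 h2 =>
        obtain ⟨i, hi⟩ := h2
        have h3 : v * w * v⁻¹ = x ^ i * w := by
          rw [show x ^ i = v * w * v⁻¹ * w⁻¹ from hi, inv_mul_cancel_right]
        have h4 : u * v * w * (u * v)⁻¹ * w⁻¹ = u * (v * w * v⁻¹) * u⁻¹ * w⁻¹ := by group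
        rw [h4, h3]
        have hu : u ∈ (S : Subgroup G) := by
          have hBS' : B ≤ (S : Subgroup G) := by
            rw [hB, closure_le]
            rintro t (rfl | rfl)
            exacts [hYS, h.mem]
          exact hBS' ‹_›
        rw [show u * (x ^ i * w) * u⁻¹ * w⁻¹ = (u * x ^ i * u⁻¹) * (u * w * u⁻¹ * w⁻¹) by group,
          ((h.cen u hu).zpow_right i).eq, mul_inv_cancel_right]
        exact mul_mem ⟨i, rfl⟩ h1
      | inv u hu h1 =>
        have hu' : u ∈ (S : Subgroup G) := by
          have hBS' : B ≤ (S : Subgroup G) := by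
            rw [hB, closure_le]
            rintro t (rfl | rfl)
            exacts [hYS, h.mem]
          exact hBS' hu
        have := (mem_normalizer_iff.1 (hXn (inv_mem hu')) _).1 (inv_mem h1)
        simpa [mul_assoc] using this
    intro u hu w hw
    set y := u⁻¹ * w⁻¹ * u * w with hy
    have hyB : y ∈ B := by
      have := hcommB u⁻¹ (inv_mem hu) w⁻¹ (inv_mem hw)
      simpa [hy] using this
    have := hBcomm y⁻¹ (inv_mem hyB) w⁻¹ (inv_mem hw)
    simp only [inv_inv] at this
    exact this
  refine false_of_normalizer S hSM (h.residual_self hcl) D le_sup_right hMD hzS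
    (fun hc => hzB (hDB hc)) ?_
    (fun a ha b hb => mem_sup_left (commutator_mem_commutator ha hb))
  -- the normalizer fixes `z` modulo `D`
  intro m hm
  have hw : m * z * m⁻¹ ∈ (S : Subgroup G) := (mem_normalizer_iff.1 hm z).1 hzS
  rcases hXz with e | e
  · have hzc := hcen_of z (by
      show z * X = X * z
      conv_rhs => rw [← e]
      group) hYz.symm (Commute.refl z)
    rw [hfixz hzS hzc m hm, mul_inv_cancel]
    exact one_mem _
  · -- here `Y` and `x₀` lie in `D`
    have hYD : Y ∈ D := by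
      refine mem_sup_left ?_
      have := commutator_mem_commutator (inv_mem hXS) hzS (H₁ := (S : Subgroup G))
        (H₂ := (S : Subgroup G))
      rwa [commutatorElement_def, inv_inv, e, mul_inv_cancel_right] at this
    have hwY : Commute (m * z * m⁻¹) Y := by
      have hY' : m⁻¹ * Y * m ∈ B := by
        refine hDB ?_
        have := (mem_normalizer_iff.1 (hMD (inv_mem hm)) Y).1 hYD
        rwa [inv_inv] at this
      have hle : B ≤ centralizer ({z} : Set G) := by
        rw [hB, closure_le]
        rintro t (rfl | rfl) <;> refine mem_centralizer_singleton_iff.2 ?_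
        exacts [hYz, (h.cen z hzS).symm.eq]
      have h1 : Commute z (m⁻¹ * Y * m) := (mem_centralizer_singleton_iff.1 (hle hY')).symm
      have h2 := h1.map (MulAut.conj m)
      simpa [MulAut.conj_apply, mul_assoc] using h2
    -- write the conjugate in the generators
    have hform : ∀ w ∈ (S : Subgroup G), ∃ i : ℤ, ∃ b ∈ B, ∃ l : ℤ, w = X ^ i * (b * z ^ l) := by
      let Q : Subgroup G :=
        { carrier := {w | w ∈ (S : Subgroup G) ∧ ∃ i : ℤ, ∃ b ∈ B, ∃ l : ℤ, w = X ^ i * (b * z ^ l)}
          one_mem' := ⟨one_mem _, 0, 1, one_mem _, 0, by simp⟩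
          mul_mem' := by
            rintro _ _ ⟨hw1, i, b, hb, l, rfl⟩ ⟨hw2, i', b', hb', l', rfl⟩
            refine ⟨mul_mem hw1 hw2, i + i', ?_⟩
            set c := X ^ i' with hc
            have hcS : c ∈ (S : Subgroup G) := zpow_mem hXS _
            have h1 : c⁻¹ * b * c ∈ B := by
              have := (mem_normalizer_iff.1 (inv_mem (hBS hcS)) b).1 hb
              rwa [inv_inv] at this
            have h2 : c⁻¹ * z ^ l * c * (z ^ l)⁻¹ ∈ B := by
              have := hcommB c⁻¹ (inv_mem hcS) (z ^ l) (zpow_mem hzS _)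
              rwa [inv_inv] at this
            have h3 : z ^ l * b' * (z ^ l)⁻¹ ∈ B :=
              (mem_normalizer_iff.1 (hBS (zpow_mem hzS _)) b').1 hb'
            refine ⟨c⁻¹ * b * c * (c⁻¹ * z ^ l * c * (z ^ l)⁻¹) * (z ^ l * b' * (z ^ l)⁻¹),
              mul_mem (mul_mem h1 h2) h3, l + l', ?_⟩
            rw [hc]
            group
          inv_mem' := by
            rintro _ ⟨hw1, i, b, hb, l, rfl⟩
            refine ⟨inv_mem hw1, -i, ?_⟩
            set c := X ^ i with hc
            have hcS : c ∈ (S : Subgroup G) := zpow_mem hXS _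
            set v := (z ^ l)⁻¹ * b⁻¹ * z ^ l with hv
            have hvB : v ∈ B := by
              have := (mem_normalizer_iff.1 (hBS (inv_mem (zpow_mem hzS l))) b⁻¹).1 (inv_mem hb)
              rwa [inv_inv] at this
            have h1 : c * v * c⁻¹ ∈ B := (mem_normalizer_iff.1 (hBS hcS) v).1 hvB
            have h2 : c * z ^ (-l) * c⁻¹ * (z ^ (-l))⁻¹ ∈ B :=
              hcommB c hcS (z ^ (-l)) (zpow_mem hzS _)
            refine ⟨c * v * c⁻¹ * (c * z ^ (-l) * c⁻¹ * (z ^ (-l))⁻¹), mul_mem h1 h2, -l, ?_⟩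
            rw [hc, hv]
            group }
      intro w hw
      have hle : closure ({X, Y, z} : Set G) ≤ Q := by
        rw [closure_le]
        rintro t (rfl | rfl | rfl)
        · exact ⟨hXS, 1, 1, one_mem _, 0, by simp⟩
        · exact ⟨hYS, 0, _, hYB, 0, by simp⟩
        · exact ⟨hzS, 0, 1, one_mem _, 1, by simp⟩
      exact (hle (hgen ▸ hw)).2
    obtain ⟨i, b, hb, l, hwd⟩ := hform _ hw
    have hXi : X ^ i = 1 := by
      by_contra hne
      apply hncXY
      have h1 : Commute (X ^ i) Y := by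
        have h2 : X ^ i = m * z * m⁻¹ * (b * z ^ l)⁻¹ := by rw [hwd, mul_inv_cancel_right]
        rw [h2]
        refine hwY.mul_left (Commute.inv_left (Commute.mul_left ?_ ?_))
        · have hle : B ≤ centralizer ({Y} : Set G) := by
            rw [hB, closure_le]
            rintro t (rfl | rfl) <;> refine mem_centralizer_singleton_iff.2 ?_
            exacts [rfl, hYx.symm.eq]
          exact mem_centralizer_singleton_iff.1 (hle hb)
        · exact ((show Commute Y z from hYz).symm).zpow_left l
      have hpd : ¬ (p : ℤ) ∣ i := fun hdvd => hne (by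
        obtain ⟨k, rfl⟩ := hdvd
        rw [zpow_mul, zpow_natCast, hXp, one_zpow])
      obtain ⟨u, v, huv⟩ := (Nat.prime_iff_prime_int.1 hp.out).coprime_iff_not_dvd.2 hpd
      have hX1 : X = (X ^ i) ^ v := by
        conv_lhs => rw [← zpow_one X, ← huv]
        rw [zpow_add, mul_comm u, zpow_mul, zpow_natCast, hXp, one_zpow, one_mul, mul_comm v,
          zpow_mul]
      rw [hX1]
      exact (h1.zpow_left v).eq
    rw [hXi, one_mul] at hwd
    have hzl : z ^ (p * l : ℤ) = z ^ (p : ℤ) := by
      have hbz : Commute b (z ^ l) := by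
        have hle : B ≤ centralizer ({z} : Set G) := by
          rw [hB, closure_le]
          rintro t (rfl | rfl) <;> refine mem_centralizer_singleton_iff.2 ?_
          exacts [hYz, (h.cen z hzS).symm.eq]
        exact (show Commute b z from mem_centralizer_singleton_iff.1 (hle hb)).zpow_right l
      have h1 : (m * z * m⁻¹) ^ p = m * z ^ p * m⁻¹ := conj_pow
      rw [hfixz (pow_mem hzS p) hzpc m hm, hwd, hbz.mul_pow, hBp b hb, one_mul] at h1
      rw [zpow_natCast, ← h1, mul_comm, zpow_mul, zpow_natCast]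
    have hdiv : ((p ^ (n - 3) : ℕ) : ℤ) ∣ l - 1 := by
      have h1 : z ^ ((p : ℤ) * (l - 1)) = 1 := by
        rw [mul_sub, mul_one, zpow_sub, hzl, mul_inv_cancel]
      rw [← orderOf_dvd_iff_zpow_eq_one, hzord, show n - 2 = n - 3 + 1 by omega, pow_succ] at h1
      push_cast at h1 ⊢
      rw [mul_comm ((p : ℤ) ^ (n - 3))] at h1
      exact Int.dvd_of_mul_dvd_mul_left (by exact_mod_cast hp.out.ne_zero) h1
    obtain ⟨k, hk⟩ := hdiv
    have hzk : z ^ (l - 1) ∈ zpowers x := by
      rw [hk, zpow_mul, zpow_natCast, ← hx0]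
      exact zpow_mem hx0x k
    rw [hwd, show b * z ^ l * z⁻¹ = b * z ^ (l - 1) by rw [zpow_sub_one]; group]
    refine mul_mem ?_ (mem_sup_right hzk)
    have hBD : B ≤ D := by
      rw [hB, closure_le]
      rintro t (rfl | rfl)
      exacts [hYD, mem_sup_right (mem_zpowers _)]
    exact hBD hb

/-- The maximal class case. -/
theorem maxClass_odd (hp3 : p = 3) {n : ℕ} (hn : Nat.card (S : Subgroup G) = p ^ n) (hn4 : 4 ≤ n)
    (hcl : Group.nilpotencyClass (S : Subgroup G) = n - 1) : Odd n := by
  by_contra hodd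
  rw [Nat.not_odd_iff_even] at hodd
  have hPp : IsPGroup p ↥(S : Subgroup G) := S.isPGroup'
  haveI := hPp.isNilpotent
  have hmax : H66.MaxClass.IsMax p ↥(S : Subgroup G) n := ⟨hn, by omega, hcl⟩
  set R := H66.MaxClass.C ↥(S : Subgroup G) 1 with hR
  set L1 := H66.MaxClass.L ↥(S : Subgroup G) 1 with hL1
  set L3 := H66.MaxClass.L ↥(S : Subgroup G) (1 + 2) with hL3
  have hR1 : L1 ≤ R := H66.MaxClass.L_one_le_C 1
  have hRne : R ≠ ⊤ := hmax.C_ne_top (by omega)
  have hRidx : R.index = p := by
    obtain ⟨j, hj⟩ := hPp.index R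
    have h1 := hmax.index_C_le (k := 1) le_rfl (by omega)
    rw [hR] at hj
    rw [hj] at h1 ⊢
    rcases j with _ | _ | j
    · exact absurd (index_eq_one.1 (hj.trans (pow_zero p))) hRne
    · rw [pow_one]
    · exfalso
      have := Nat.pow_le_pow_right hp.out.pos (show 2 ≤ j + 1 + 1 by omega)
      have := hp.out.one_lt
      nlinarith
  haveI hRn : R.Normal := by
    obtain ⟨hRn, -⟩ : R.Normal ∧ True := ⟨⟨fun r hr g => by
      rw [show g * r * g⁻¹ = ⁅g, r⁆ * r by simp [commutatorElement_def]]
      exact mul_mem (hR1 (Subgroup.commutator_mem_commutator (mem_top g) (mem_top r))) hr⟩, trivial⟩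
    exact hRn
  -- the element `x`
  set x' : ↥(S : Subgroup G) := ⟨x, h.mem⟩ with hx'
  have hx'c : x' ∈ center ↥(S : Subgroup G) := mem_center_iff.2 fun g => Subtype.ext (h.cen g g.2).eq
  have hx'L : x' ∈ H66.MaxClass.L ↥(S : Subgroup G) (n - 2) := hmax.center_eq (by omega) ▸ hx'c
  have hx'1 : x' ≠ 1 := fun e => h.ne_one (congrArg Subtype.val e)
  have hLx : H66.MaxClass.L ↥(S : Subgroup G) (n - 2) = zpowers x' := by
    refine (eq_of_le_of_card_ge (zpowers_le.2 hx'L) ?_).symm
    rw [hmax.card_L (by omega) (by omega), Nat.card_zpowers,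
      show orderOf x' = p by rw [← orderOf_coe]; exact h.ord,
      show n - 1 - (n - 2) = 1 by omega, pow_one]
  have hxR : x' ∈ R := hR1 (H66.MaxClass.L_anti (by omega) hx'L)
  have hZn : (zpowers x').Normal :=
    ⟨fun a ha g => by
      obtain ⟨i, rfl⟩ := ha
      show g * x' ^ i * g⁻¹ ∈ zpowers x'
      rw [((mem_center_iff.1 (zpow_mem hx'c i)) g), mul_inv_cancel_right]
      exact zpow_mem (mem_zpowers _) i⟩
  have hsmall : ∀ N : Subgroup ↥(S : Subgroup G), N.Normal → Nat.card N ≤ p → N ≤ zpowers x' := by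
    intro N hN hc
    rcases eq_or_ne N ⊥ with rfl | hne
    · exact bot_le
    · rw [← hLx]
      refine (eq_of_le_of_card_ge (hmax.le_of_normal_ne_bot (by omega) N hne) ?_).ge
      rw [hLx, Nat.card_zpowers, show orderOf x' = p by rw [← orderOf_coe]; exact h.ord]
      exact hc
  have hrankP : Cfsg.PRankLE p 2 ↥(S : Subgroup G) := rank_subgroup h.rank _
  have hrankR : Cfsg.PRankLE p 2 R := rank_subgroup hrankP _
  -- a noncyclic normal subgroup of order `p ^ 2`
  have hPnc : ¬ IsCyclic ↥(S : Subgroup G) := fun hc => by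
    letI := IsCyclic.commGroup (α := ↥(S : Subgroup G))
    have := hcl.symm.le.trans (CommGroup.nilpotencyClass_le_one (G := ↥(S : Subgroup G)))
    omega
  obtain ⟨E, hEn, hEel, hEcard⟩ := PLemmas.exists_normal_elemAbelian_sq h.odd hPp hPnc
  haveI := hEn
  have hEL : H66.MaxClass.L ↥(S : Subgroup G) (n - 3) = E := by
    refine eq_of_le_of_card_ge (hmax.le_of_normal_of_lt_card hn4 E ?_) ?_
    · rw [hEcard]; have := hp.out.one_lt; nlinarith
    · rw [hEcard, hmax.card_L (by omega) (by omega), show n - 1 - (n - 3) = 2 by omega]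
  have hbig : ∀ N : Subgroup ↥(S : Subgroup G), N.Normal → p < Nat.card N → E ≤ N := fun N hN hc =>
    hEL ▸ hmax.le_of_normal_of_lt_card hn4 N hc
  have hRcard : Nat.card R = p ^ (n - 1) := by
    have := R.card_mul_index
    rw [hRidx, hn, show n = n - 1 + 1 by omega, pow_succ] at this
    exact Nat.eq_of_mul_eq_mul_right hp.out.pos this
  -- the derived group of `R` is small and elements of order `p` are few
  have hRR3 : ∀ a ∈ R, ∀ b ∈ R, ⁅a, b⁆ ∈ L3 := by
    intro a ha b hb
    obtain ⟨g, hgR, hg1⟩ := SetLike.exists_of_lt (lt_of_le_of_ne hR1 (fun e => by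
      have h1 := hmax.card_L (k := 1) le_rfl (by omega)
      rw [← hL1, e, hRcard] at h1
      have := Nat.pow_right_injective hp.out.two_le h1
      omega))
    haveI : L3.Normal := inferInstance
    have hcov : R = closure ({g} ∪ (L1 : Set ↥(S : Subgroup G))) := by
      refine le_antisymm (fun r hr => ?_) ((closure_le _).2 (Set.union_subset
        (by simpa using hgR) hR1))
      have hrel : L1.relIndex R = p := by
        have h1 := Subgroup.card_mul_index L1
        have h2 := relIndex_mul_index hR1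
        have h3 := hmax.card_L (k := 1) le_rfl (by omega)
        rw [← hL1] at h3
        rw [h3, hn] at h1
        rw [hRidx] at h2
        have h4 : L1.index = p ^ 2 := Nat.eq_of_mul_eq_mul_left (pow_pos hp.out.pos (n - 1 - 1))
          (h1.trans (by rw [← pow_add]; congr 1; omega))
        rw [h4, sq] at h2
        exact Nat.eq_of_mul_eq_mul_right hp.out.pos h2
      obtain ⟨i, hi⟩ := MaxClassPow.exists_zpow_mul hR1 hp.out hrel hgR hg1 hr
      rw [show r = g ^ i * ((g ^ i)⁻¹ * r) by group]
      exact mul_mem (zpow_mem (subset_closure (by simp)) i) (subset_closure (Or.inr hi))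
    have hn3 : (R : Subgroup ↥(S : Subgroup G)) ≤ Subgroup.normalizer (L3 : Set ↥(S : Subgroup G)) := by
      simp [Subgroup.normalizer_eq_top]
    have := comm_mem_of_generators (T := {g} ∪ (L1 : Set ↥(S : Subgroup G))) hcov.symm hn3 ?_ a ha b hb
    · rwa [commutatorElement_def]
    · intro u hu v hv
      rw [← commutatorElement_def]
      rcases hu with rfl | hu <;> rcases hv with rfl | hv
      · simp
      · rw [← commutatorElement_inv v u]
        exact inv_mem (hgR v hv)
      · exact hgR u hu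
      · exact hR1 hv u hu
  have hRne4 : ¬ IsMulCommutative R → 6 ≤ n := by
    intro hnc
    rcases eq_or_ne n 4 with rfl | hne4
    · refine absurd ⟨⟨fun a b => Subtype.ext ?_⟩⟩ hnc
      have := hRR3 a a.2 b b.2
      rw [hL3, hmax.L_eq_bot (by omega), mem_bot] at this
      exact commutatorElement_eq_one_iff_mul_comm.1 this
    · obtain ⟨k, rfl⟩ := hodd
      omega
  -- `R` is commutative or metacyclic
  have hRmeta : ¬ IsMulCommutative R → Cfsg.IsMetacyclic R := by
    intro hnc
    have hn6 := hRne4 hnc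
    have hcen : p < Nat.card (center R) → ∀ X : R, X ^ p = 1 → ∀ y : R, X * y = y * X := by
      intro hlt
      set Z := (center R).map R.subtype with hZ
      have hZn : Z.Normal := by
        haveI : (center R).Characteristic := inferInstance
        exact ConjAct.normal_of_characteristic_of_normal
      have hEZ := hbig Z hZn (by rwa [hZ, card_map_of_injective R.subtype_injective])
      have hxE : x' ∈ E := hEL ▸ H66.MaxClass.L_anti (by omega) hx'L
      obtain ⟨e, he, hex⟩ : ∃ e ∈ E, e ∉ zpowers x' := by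
        by_contra hc
        simp only [not_exists, not_and, not_not] at hc
        have := Subgroup.card_le_of_le (show E ≤ zpowers x' from hc)
        rw [hEcard, Nat.card_zpowers, show orderOf x' = p by rw [← orderOf_coe]; exact h.ord] at this
        have := hp.out.one_lt
        nlinarith
      obtain ⟨eR, heR, heq⟩ := hEZ he
      obtain ⟨xR, hxR', hxq⟩ := hEZ hxE
      have hxq1 : xR ≠ 1 := fun e1 => hx'1 (by rw [← hxq, e1, map_one])
      have hind : eR ∉ zpowers xR := fun hm => hex (by
        obtain ⟨i, hi⟩ := hm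
        exact ⟨i, show x' ^ i = e by rw [← hxq, ← heq, ← map_zpow]; exact congrArg _ hi⟩)
      intro X hXp y
      obtain ⟨i, j, rfl⟩ := exists_pow_mul_pow hrankR (a := xR) (b := eR) (e := X)
        (R.subtype_injective (by rw [map_pow, map_one, hxq]; exact hEel.2 _ hxE))
        (R.subtype_injective (by rw [map_pow, map_one, heq]; exact hEel.2 e he))
        hXp (mem_center_iff.1 heR xR) (mem_center_iff.1 hxR' X) (mem_center_iff.1 heR X)
        hxq1 hind
      exact (((show Commute y xR from mem_center_iff.1 hxR' y).zpow_right i).mul_right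
        ((show Commute y eR from mem_center_iff.1 heR y).zpow_right j)).symm.eq
    -- a central element of large order and generators of order `p`
    have hgens : ∀ (X Y z c : R), closure ({X, Y, z} : Set R) = ⊤ → X ^ p = 1 → Y ^ p = 1 →
        Y * z = z * Y → X⁻¹ * Y * X ∈ closure ({Y, z} : Set R) →
        X⁻¹ * z * X ∈ closure ({Y, z} : Set R) → c ∈ center R → orderOf z ≤ p * orderOf c →
        False := by
      intro X Y z c hgen hXp hYp hYz h1 h2 hc hle
      rcases lt_or_ge p (Nat.card (center R)) with hlt | hle'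
      · refine hnc (commute_of_generators hgen ?_)
        rintro u (rfl | rfl | rfl) v (rfl | rfl | rfl)
        exacts [rfl, hcen hlt _ hXp _, hcen hlt _ hXp _, (hcen hlt _ hXp _).symm, rfl, hYz,
          (hcen hlt _ hXp _).symm, hYz.symm, rfl]
      · have hcp : orderOf c ≤ p := le_trans (by
          rw [← Nat.card_zpowers]; exact Subgroup.card_le_of_le (zpowers_le.2 hc)) hle'
        have hcard := card_closure_triple_le hYz h1 h2
        rw [hgen, Subgroup.card_top, hRcard] at hcard
        have h5 : p ^ (n - 1) ≤ p * (p * p) * p :=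
          hcard.trans (Nat.mul_le_mul (Nat.mul_le_mul
            (Nat.le_of_dvd hp.out.pos (orderOf_dvd_of_pow_eq_one hYp))
            (hle.trans (Nat.mul_le_mul_left p hcp)))
            (Nat.le_of_dvd hp.out.pos (orderOf_dvd_of_pow_eq_one hXp)))
        have h6 : p ^ 5 ≤ p ^ (n - 1) := Nat.pow_le_pow_right hp.out.pos (by omega)
        have h7 : p ^ 4 < p ^ 5 := Nat.pow_lt_pow_right hp.out.one_lt (by norm_num)
        rw [show p * (p * p) * p = p ^ 4 by ring] at h5
        omega
    obtain hm | ⟨-, X, Y, z, hgen, hXp, hYp, -, hXz, hYz, hXY⟩ |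
      ⟨-, s, X, Y, z, -, hgen, hXp, hYp, -, hYz, hXY, hXz⟩ | ⟨-, -, hmc⟩ :=
      Cfsg.Agent.S3888.result h.odd (n - 1) hRcard hrankR
    · exact hm
    · exfalso
      have hzc : z ∈ center R := by
        rw [mem_center_iff]
        intro g
        have hle : closure ({X, Y, z} : Set R) ≤ centralizer ({z} : Set R) := by
          rw [closure_le]
          rintro u (rfl | rfl | rfl) <;> refine mem_centralizer_singleton_iff.2 ?_
          exacts [hXz, hYz, rfl]
        exact mem_centralizer_singleton_iff.1 (hle (hgen ▸ mem_top g))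
      refine hgens X Y z z hgen hXp hYp hYz ?_ ?_ hzc (Nat.le_mul_of_pos_left _ hp.out.pos)
      · rw [hXY]; exact mul_mem (subset_closure (by simp)) (pow_mem (subset_closure (by simp)) _)
      · rw [mul_assoc, ← hXz, inv_mul_cancel_left]; exact subset_closure (by simp)
    · exfalso
      have hzc : z ^ p ∈ center R := by
        rw [mem_center_iff]
        intro g
        have h1 : Commute X (z ^ p) := by
          have h2 : X⁻¹ * z ^ p * X = z ^ p := by
            have := conj_pow (a := X⁻¹) (b := z) (i := p)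
            rw [inv_inv, hXz, (show Commute Y z from hYz).mul_pow, hYp, one_mul] at this
            exact this.symm
          show X * z ^ p = z ^ p * X
          calc X * z ^ p = X * (X⁻¹ * z ^ p * X) := by rw [h2]
            _ = z ^ p * X := by group
        have hle : closure ({X, Y, z} : Set R) ≤ centralizer ({z ^ p} : Set R) := by
          rw [closure_le]
          rintro u (rfl | rfl | rfl) <;> refine mem_centralizer_singleton_iff.2 ?_
          exacts [h1.eq, ((show Commute u z from hYz).pow_right p).eq,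
            ((Commute.refl u).pow_right p).eq]
        exact mem_centralizer_singleton_iff.1 (hle (hgen ▸ mem_top g))
      refine hgens X Y z (z ^ p) hgen hXp hYp hYz ?_ ?_ hzc ?_
      · rw [hXY]; exact mul_mem (subset_closure (by simp)) (pow_mem (subset_closure (by simp)) _)
      · rw [hXz]; exact mul_mem (subset_closure (by simp)) (subset_closure (by simp))
      · refine Nat.le_of_dvd (Nat.mul_pos hp.out.pos (orderOf_pos _)) (orderOf_dvd_of_pow_eq_one ?_)
        rw [pow_mul, pow_orderOf_eq_one]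
    · exfalso
      have hRp : IsPGroup p R := hPp.to_subgroup R
      haveI := hRp.isNilpotent
      have hclR : Group.nilpotencyClass R = n - 1 - 1 := by
        refine le_antisymm (PLemmas.nilpotencyClass_le hRp hRcard (by omega)) ?_
        by_contra hlt
        exact hmc (Subgroup.lowerCentralSeries_eq_bot_iff_nilpotencyClass_le.2 (by omega))
      have hmaxR : H66.MaxClass.IsMax p R (n - 1) := ⟨hRcard, by omega, hclR⟩
      have hle : (H66.MaxClass.L R 1).map R.subtype ≤ L3 := by
        rw [map_le_iff_le_comap]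
        show ⁅(⊤ : Subgroup R), (⊤ : Subgroup R)⁆ ≤ _
        rw [commutator_le]
        intro a _ b _
        show R.subtype ⁅a, b⁆ ∈ L3
        rw [map_commutatorElement]
        exact hRR3 a a.2 b b.2
      have h1 := Subgroup.card_le_of_le hle
      rw [card_map_of_injective R.subtype_injective, hmaxR.card_L le_rfl (by omega), hL3,
        hmax.card_L (by omega) (by omega)] at h1
      have h2 := (Nat.pow_le_pow_iff_right hp.out.one_lt).1 h1
      omega
  have hR' : ∀ a ∈ R, ∀ b ∈ R, ⁅a, b⁆ ∈ zpowers x' := by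
    by_cases hnc : IsMulCommutative R
    · intro a ha b hb
      rw [commutatorElement_eq_one_iff_mul_comm.2
        (congrArg Subtype.val (mul_comm' (⟨a, ha⟩ : R) ⟨b, hb⟩))]
      exact one_mem _
    · obtain ⟨N, hN, hNc, hQc⟩ := hRmeta hnc
      haveI := hN
      haveI := hNc
      haveI := hQc
      set W := (_root_.commutator R).map R.subtype with hW
      have hWn : W.Normal := by
        haveI : (_root_.commutator R).Characteristic := inferInstance
        exact ConjAct.normal_of_characteristic_of_normal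
      have hcomm : _root_.commutator R ≤ N := by
        rw [_root_.commutator_def, commutator_le]
        intro a _ b _
        rw [← QuotientGroup.eq_one_iff]
        show QuotientGroup.mk' N ⁅a, b⁆ = 1
        rw [map_commutatorElement, commutatorElement_eq_one_iff_mul_comm]
        letI := IsCyclic.commGroup (α := R ⧸ N)
        exact mul_comm _ _
      have hWc : IsCyclic W := by
        haveI : IsCyclic (_root_.commutator R) :=
          isCyclic_of_injective (Subgroup.inclusion hcomm) (Subgroup.inclusion_injective hcomm)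
        exact isCyclic_of_surjective _ (R.subtype.subgroupMap_surjective _)
      have hWsmall : Nat.card W ≤ p := by
        by_contra hlt
        rw [not_le] at hlt
        have hEW := hbig W hWn hlt
        haveI := hWc
        haveI : IsCyclic E :=
          isCyclic_of_injective (Subgroup.inclusion hEW) (Subgroup.inclusion_injective hEW)
        obtain ⟨a, ha⟩ := IsCyclic.exists_generator (α := E)
        have h1 : orderOf a ≤ p :=
          Nat.le_of_dvd hp.out.pos (orderOf_dvd_of_pow_eq_one (Subtype.ext (hEel.2 _ a.2)))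
        rw [orderOf_eq_card_of_forall_mem_zpowers ha, hEcard] at h1
        have := hp.out.one_lt
        nlinarith
      intro a ha b hb
      refine hsmall W hWn hWsmall ⟨⁅(⟨a, ha⟩ : R), ⟨b, hb⟩⁆,
        commutator_mem_commutator (mem_top _) (mem_top _), ?_⟩
      rw [map_commutatorElement]
      rfl
  have hexp : ∀ K : Subgroup R, (∀ k ∈ K, k ^ p = 1) → Nat.card K ≤ p ^ 2 := by
    intro K hK
    by_cases hnc : IsMulCommutative R
    · exact hrankR K inferInstance hK
    · exact card_le_of_exponent_of_metacyclic (hRmeta hnc) K hK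
  -- the power maps of `R`
  have hpow : ∀ a b : R, (a * b) ^ p = a ^ p * b ^ p := by
    intro a b
    set c := b⁻¹ * a⁻¹ * b * a with hc
    have hcmem : (c : ↥(S : Subgroup G)) ∈ zpowers x' := by
      have := hR' ((b⁻¹ : R) : ↥(S : Subgroup G)) (b⁻¹).2 ((a⁻¹ : R) : ↥(S : Subgroup G)) (a⁻¹).2
      simpa [hc, commutatorElement_def] using this
    have hccen : ∀ g : R, c * g = g * c := fun g => Subtype.ext (by
      push_cast
      exact (mem_center_iff.1 (zpowers_le.2 hx'c hcmem) _).symm)
    have hba : b * a = a * b * c := by rw [hc]; group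
    rw [CoprimeOmega.mul_pow_of_commute hba (hccen a) (hccen b)]
    have hcp : c ^ p = 1 := by
      obtain ⟨i, hi⟩ := hcmem
      refine Subtype.ext ?_
      push_cast
      rw [← show x' ^ i = (c : ↥(S : Subgroup G)) from hi, ← zpow_natCast, ← zpow_mul, mul_comm, zpow_mul,
        zpow_natCast, show x' ^ p = 1 from Subtype.ext h.pow_eq_one, one_zpow]
    obtain ⟨m, hm⟩ := hp.out.dvd_choose_self (show (2 : ℕ) ≠ 0 by norm_num)
      (show 2 < p by omega)
    rw [hm, pow_mul, hcp, one_pow, mul_one]
  let φ : ℕ → (R →* R) := fun i =>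
    MonoidHom.mk' (fun a => a ^ p ^ i) (fun a b => by
      induction i with
      | zero => simp
      | succ i ih => simp only [pow_succ, pow_mul, ih, hpow])
  have hφ : ∀ i a, φ i a = a ^ p ^ i := fun i a => rfl
  have hex : ∃ e, ∀ a : R, a ^ p ^ e = 1 := by
    refine ⟨n - 1, fun a => ?_⟩
    rw [← hRcard]
    exact pow_card_eq_one'
  classical
  set e := Nat.find hex with he
  have heq1 : ∀ a : R, a ^ p ^ e = 1 := Nat.find_spec hex
  have hR1' : 1 < Nat.card R := by
    rw [hRcard]; exact Nat.one_lt_pow (by omega) hp.out.one_lt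
  have he1 : 1 ≤ e := by
    by_contra hlt
    have h0 : e = 0 := by omega
    haveI : Nontrivial R := Finite.one_lt_card_iff_nontrivial.1 hR1'
    obtain ⟨a, ha⟩ := exists_ne (1 : R)
    exact ha (by simpa [h0] using heq1 a)
  obtain ⟨a0, ha0⟩ : ∃ a : R, a ^ p ^ (e - 1) ≠ 1 := by
    by_contra hc
    simp only [not_exists, not_not] at hc
    have := Nat.find_min' hex hc
    omega
  set Im := (φ (e - 1)).range with hIm
  have hImexp : ∀ k ∈ Im, k ^ p = 1 := by
    rintro _ ⟨a, rfl⟩
    rw [hφ, ← pow_mul, ← pow_succ, show e - 1 + 1 = e by omega]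
    exact heq1 a
  have hImle := hexp Im hImexp
  have hImp : IsPGroup p Im := (hPp.to_subgroup R).to_subgroup Im
  have hImne : Im ≠ ⊥ := fun hb => ha0 (by
    have : φ (e - 1) a0 ∈ Im := ⟨a0, rfl⟩
    rwa [hb, mem_bot, hφ] at this)
  have hImcard : Nat.card Im = p := by
    obtain ⟨j, hj⟩ := hImp.exists_card_eq
    rw [hj] at hImle ⊢
    have hj2 : j ≤ 2 := (Nat.pow_le_pow_iff_right hp.out.one_lt).1 hImle
    rcases (by omega : j = 0 ∨ j = 1 ∨ j = 2) with rfl | rfl | rfl
    · exact absurd (card_eq_one.1 (by rw [hj, pow_zero])) hImne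
    · rw [pow_one]
    exfalso
    -- otherwise the order of `R` is an even power of `p`
    have hker1 : (φ 1).ker = Im := by
      refine (eq_of_le_of_card_ge (fun k hk => MonoidHom.mem_ker.2 ?_) ?_).symm
      · rw [hφ, pow_one]; exact hImexp k hk
      · rw [hj]
        exact hexp _ fun k hk => by simpa [hφ] using MonoidHom.mem_ker.1 hk
    have hstep : ∀ i, i < e → Nat.card (φ (i + 1)).ker = Nat.card (φ i).ker * p ^ 2 := by
      intro i hi
      set ψ := (φ i).comp (φ (i + 1)).ker.subtype with hψ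
      have hrange : ψ.range = Im := by
        refine le_antisymm ?_ ?_
        · rintro _ ⟨a, rfl⟩
          rw [← hker1, MonoidHom.mem_ker, hψ, MonoidHom.comp_apply, hφ, hφ, pow_one, ← pow_mul,
            ← pow_succ]
          exact MonoidHom.mem_ker.1 a.2
        · rintro _ ⟨a, rfl⟩
          have hmem : a ^ p ^ (e - 1 - i) ∈ (φ (i + 1)).ker := by
            rw [MonoidHom.mem_ker, hφ, ← pow_mul, ← pow_add,
              show e - 1 - i + (i + 1) = e by omega]
            exact heq1 a
          refine ⟨⟨_, hmem⟩, ?_⟩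
          rw [hψ, MonoidHom.comp_apply, hφ, hφ]
          show (a ^ p ^ (e - 1 - i)) ^ p ^ i = _
          rw [← pow_mul, ← pow_add, show e - 1 - i + i = e - 1 by omega]
      have h1 := ψ.ker.index_mul_card
      rw [index_ker, hrange, hj] at h1
      rw [← h1, mul_comm]
      congr 1
      refine Nat.card_congr
        { toFun := fun a => ⟨a.1.1, ?_⟩
          invFun := fun a => ⟨⟨a.1, ?_⟩, ?_⟩
          left_inv := fun a => rfl
          right_inv := fun a => rfl }
      · exact MonoidHom.mem_ker.2 (MonoidHom.mem_ker.1 a.2)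
      · rw [MonoidHom.mem_ker, hφ, pow_succ, pow_mul, ← hφ i, MonoidHom.mem_ker.1 a.2, one_pow]
      · exact MonoidHom.mem_ker.2 (MonoidHom.mem_ker.1 a.2)
    have hall : ∀ i, i ≤ e → Nat.card (φ i).ker = p ^ (2 * i) := by
      intro i
      induction i with
      | zero =>
        intro _
        rw [mul_zero, pow_zero, card_eq_one, eq_bot_iff]
        intro a ha
        simpa [hφ] using MonoidHom.mem_ker.1 ha
      | succ i ih =>
        intro hi
        rw [hstep i (by omega), ih (by omega), ← pow_add]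
        congr 1
    have htop : (φ e).ker = ⊤ :=
      eq_top_iff.2 fun a _ => MonoidHom.mem_ker.2 (heq1 a)
    have := hall e le_rfl
    rw [htop, Subgroup.card_top, hRcard] at this
    have := Nat.pow_right_injective hp.out.two_le this
    obtain ⟨k, rfl⟩ := hodd
    omega
  have hImx : Im.map R.subtype ≤ zpowers x' := by
    refine hsmall _ ⟨?_⟩ (by rw [card_map_of_injective R.subtype_injective, hImcard])
    rintro _ ⟨_, ⟨a, rfl⟩, rfl⟩ g
    refine ⟨_, ⟨⟨g * a * g⁻¹, hRn.conj_mem _ a.2 g⟩, rfl⟩, ?_⟩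
    rw [hφ, hφ, map_pow, map_pow]
    exact (conj_pow)
  set K := (φ (e - 1)).ker.map R.subtype with hK
  have hKcard : Nat.card K = p ^ (n - 2) := by
    rw [hK, card_map_of_injective R.subtype_injective]
    have h1 := (φ (e - 1)).ker.index_mul_card
    rw [index_ker, ← hIm, hImcard, hRcard, show n - 1 = n - 2 + 1 by omega, pow_succ'] at h1
    exact Nat.eq_of_mul_eq_mul_left hp.out.pos h1
  have hKn : K.Normal := by
    refine ⟨?_⟩
    rintro _ ⟨a, ha, rfl⟩ g
    refine ⟨⟨g * a * g⁻¹, hRn.conj_mem _ a.2 g⟩, MonoidHom.mem_ker.2 (R.subtype_injective ?_), rfl⟩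
    rw [map_one, hφ, map_pow]
    show (g * (a : ↥(S : Subgroup G)) * g⁻¹) ^ p ^ (e - 1) = 1
    rw [conj_pow, ← SubmonoidClass.coe_pow, ← hφ, MonoidHom.mem_ker.1 ha]
    simp
  haveI := hKn
  have hKidx : K.index = p ^ 2 := by
    have := K.card_mul_index
    rw [hKcard, hn, show n = n - 2 + 2 by omega, pow_add] at this
    exact Nat.eq_of_mul_eq_mul_left (pow_pos hp.out.pos _) this
  have hL1K : L1 ≤ K := by
    have hc : IsMulCommutative (↥(S : Subgroup G) ⧸ K) := ⟨⟨fun a b => by
      letI := IsPGroup.commGroupOfCardEqPrimeSq ((Subgroup.index_eq_card K).symm.trans hKidx)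
      exact mul_comm a b⟩⟩
    show ⁅(⊤ : Subgroup ↥(S : Subgroup G)), (⊤ : Subgroup ↥(S : Subgroup G))⁆ ≤ K
    rw [commutator_le]
    intro a _ b _
    rw [← QuotientGroup.eq_one_iff]
    show QuotientGroup.mk' K ⁅a, b⁆ = 1
    rw [map_commutatorElement, commutatorElement_eq_one_iff_mul_comm]
    exact mul_comm' _ _
  -- back to the ambient group
  set RG := R.map (S : Subgroup G).subtype with hRG
  set D := K.map (S : Subgroup G).subtype with hD
  have hRGS : RG ≤ (S : Subgroup G) := map_subtype_le _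
  have hxRG : x ∈ RG := ⟨x', hxR, rfl⟩
  have hweak : Cfsg.IsWeaklyClosed RG (S : Subgroup G) := by
    refine ⟨hRGS, fun g hg => ?_⟩
    set RG' := RG.map (MulAut.conj g).toMonoidHom with hRG'
    by_contra hne
    set R2 := RG'.subgroupOf (S : Subgroup G) with hR2
    have hR2card : Nat.card R2 = Nat.card R := by
      rw [hR2, Nat.card_congr (subgroupOfEquivOfLe hg).toEquiv, hRG',
        card_map_of_injective (MulAut.conj g).injective, hRG,
        card_map_of_injective (subtype_injective _)]
    have hR2idx : R2.index = p := by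
      have h1 := R2.card_mul_index
      rw [hR2card, ← R.card_mul_index] at h1
      rw [Nat.eq_of_mul_eq_mul_left Nat.card_pos h1, hRidx]
    have hR2coatom : IsCoatom R2 := isCoatom_of_prime_index hR2idx
    obtain ⟨hR2n, -⟩ := Nilp.index_coatom_of_isPGroup hPp hR2coatom
    haveI := hR2n
    have hR2L1 : L1 ≤ R2 := by
      show ⁅(⊤ : Subgroup ↥(S : Subgroup G)), (⊤ : Subgroup ↥(S : Subgroup G))⁆ ≤ R2
      rw [commutator_le]
      intro a _ b _
      rw [← QuotientGroup.eq_one_iff]
      show QuotientGroup.mk' R2 ⁅a, b⁆ = 1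
      rw [map_commutatorElement, commutatorElement_eq_one_iff_mul_comm]
      haveI : IsCyclic (↥(S : Subgroup G) ⧸ R2) :=
        isCyclic_of_prime_card (p := p) ((Subgroup.index_eq_card R2).symm.trans hR2idx)
      letI := IsCyclic.commGroup (α := ↥(S : Subgroup G) ⧸ R2)
      exact mul_comm _ _
    obtain ⟨a, ha, haR⟩ : ∃ a ∈ R2, a ∉ R := by
      by_contra hc
      simp only [not_exists, not_and, not_not] at hc
      have heq : R2 = R := eq_of_le_of_card_ge hc hR2card.ge
      refine hne ?_
      rw [hRG, ← heq, hR2, subgroupOf_map_subtype, inf_eq_left.2 hg]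
    obtain ⟨u, hu, hua⟩ : ∃ u ∈ L1, ⁅u, a⁆ ∉ L3 := by
      by_contra hc
      simp only [not_exists, not_and, not_not] at hc
      exact haR hc
    apply hua
    obtain ⟨_, ⟨u0, hu0, rfl⟩, hu0'⟩ := (show ((u : ↥(S : Subgroup G)) : G) ∈ RG' from hR2L1 hu)
    obtain ⟨_, ⟨a0', ha0', rfl⟩, ha0''⟩ := (show ((a : ↥(S : Subgroup G)) : G) ∈ RG' from ha)
    obtain ⟨i, hi⟩ := hR' u0 hu0 a0' ha0'
    have hi' : x ^ i = ((⁅u0, a0'⁆ : ↥(S : Subgroup G)) : G) := by rw [← hi]; rfl
    have hua' : ((⁅u, a⁆ : ↥(S : Subgroup G)) : G) = g * ((⁅u0, a0'⁆ : ↥(S : Subgroup G)) : G) * g⁻¹ := by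
      have e1 : ((u : ↥(S : Subgroup G)) : G) = g * (u0 : G) * g⁻¹ := hu0'.symm
      have e2 : ((a : ↥(S : Subgroup G)) : G) = g * (a0' : G) * g⁻¹ := ha0''.symm
      simp only [commutatorElement_def, Subgroup.coe_mul, Subgroup.coe_inv, e1, e2]
      group
    rcases eq_or_ne n 4 with rfl | hne4
    · have h1 : ⁅u0, a0'⁆ = 1 := by
        have := hRR3 u0 hu0 a0' ha0'
        rwa [hL3, hmax.L_eq_bot (by omega), mem_bot] at this
      rw [h1, Subgroup.coe_one, mul_one, mul_inv_cancel] at hua'
      rw [show ⁅u, a⁆ = 1 from Subtype.ext hua']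
      exact one_mem _
    · have hgx : g * x * g⁻¹ = x :=
        h.iso g (h.cen _ (hg (mem_map_of_mem _ hxRG))).symm
      rw [← hi', ← conj_zpow, hgx] at hua'
      have hmem : ⁅u, a⁆ ∈ H66.MaxClass.L ↥(S : Subgroup G) (n - 2) := by
        rw [hLx]
        exact ⟨i, Subtype.ext (by rw [hua']; rfl)⟩
      exact H66.MaxClass.L_anti (by omega) hmem
  have hcl' : ∀ u ∈ (S : Subgroup G), ∀ z ∈ RG,
      (fun y : G => y⁻¹ * z⁻¹ * y * z) ((fun y : G => y⁻¹ * z⁻¹ * y * z) u) ∈ zpowers x := by
    rintro u hu _ ⟨z, hz, rfl⟩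
    set u' : ↥(S : Subgroup G) := ⟨u, hu⟩ with hu'
    set y := u'⁻¹ * z⁻¹ * u' * z with hy
    have hy1 : y ∈ R := hR1 (by
      rw [hy, show u'⁻¹ * z⁻¹ * u' * z = ⁅u'⁻¹, z⁻¹⁆ by rw [commutatorElement_def]; group]
      exact commutator_mem_commutator (mem_top _) (mem_top _))
    obtain ⟨i, hi⟩ := hR' y⁻¹ (inv_mem hy1) z⁻¹ (inv_mem hz)
    refine ⟨i, ?_⟩
    have := congrArg (fun t : ↥(S : Subgroup G) => (t : G)) hi
    simpa [hy, hu', commutatorElement_def, mul_assoc] using this
  have hxD : x ∈ D := ⟨x', hL1K (H66.MaxClass.L_anti (by omega) hx'L), rfl⟩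
  set M := Subgroup.normalizer (RG : Set G) with hM
  have hMx : ∀ m ∈ M, Commute m x := fun m hm =>
    mem_centralizer_singleton_iff.1
      (normalizer_le_centralizer_isolated h.iso h.cen hRGS hxRG hm)
  have hDmem : ∀ d : G, d ∈ D ↔ d ∈ RG ∧ d ^ p ^ (e - 1) = 1 := by
    intro d
    constructor
    · rintro ⟨_, ⟨a, ha, rfl⟩, rfl⟩
      refine ⟨⟨a, a.2, rfl⟩, ?_⟩
      have h1 : a ^ p ^ (e - 1) = 1 := MonoidHom.mem_ker.1 ha
      have := congrArg (fun t : R => ((t : ↥(S : Subgroup G)) : G)) h1
      simpa using this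
    · rintro ⟨⟨a, ha, rfl⟩, hd⟩
      exact ⟨a, ⟨⟨a, ha⟩, MonoidHom.mem_ker.2 (Subtype.ext (Subtype.ext (by simpa [hφ] using hd))),
        rfl⟩, rfl⟩
  have hMD : M ≤ Subgroup.normalizer (D : Set G) := by
    intro m hm
    rw [mem_normalizer_iff]
    intro d
    rw [hDmem, hDmem, ← (mem_normalizer_iff.1 hm d), conj_pow]
    constructor <;> rintro ⟨h1, h2⟩ <;> refine ⟨h1, ?_⟩
    · rw [h2, mul_one, mul_inv_cancel]
    · exact mul_left_cancel (mul_right_cancel (h2.trans (by group : (1 : G) = m * 1 * m⁻¹)))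
  have hSM : (S : Subgroup G) ≤ M := le_normalizer.trans (HallWielandt.sylow_le_normalizer S hweak)
  refine false_of_normalizer S hSM
    (pResidual_normalizer_sup h.odd h.perf S h.mem h.iso h.cen hweak hxRG hcl') D
    (zpowers_le.2 hxD) hMD (s := ((a0 : ↥(S : Subgroup G)) : G)) (a0 : ↥(S : Subgroup G)).2 ?_ ?_ ?_
  · intro hc
    obtain ⟨-, h2⟩ := (hDmem _).1 hc
    exact ha0 (Subtype.ext (Subtype.ext (by simpa using h2)))
  · intro m hm
    have hs : ((a0 : ↥(S : Subgroup G)) : G) ∈ RG := ⟨a0, a0.2, rfl⟩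
    have hms : m * ((a0 : ↥(S : Subgroup G)) : G) * m⁻¹ ∈ RG := (mem_normalizer_iff.1 hm _).1 hs
    obtain ⟨b, hb, hbm⟩ := hms
    have hbm' : m * ((a0 : ↥(S : Subgroup G)) : G) * m⁻¹ = ((b : ↥(S : Subgroup G)) : G) := hbm.symm
    rw [hbm', hDmem]
    refine ⟨⟨b * (a0 : ↥(S : Subgroup G))⁻¹, mul_mem hb (inv_mem a0.2), by simp⟩, ?_⟩
    have h1 : φ (e - 1) ((⟨b, hb⟩ : R) * a0⁻¹) = φ (e - 1) ⟨b, hb⟩ * (φ (e - 1) a0)⁻¹ := by
      rw [map_mul, map_inv]
    obtain ⟨i, hi⟩ := hImx (mem_map_of_mem _ (⟨a0, rfl⟩ : φ (e - 1) a0 ∈ Im))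
    have hi' : x ^ i = ((a0 : ↥(S : Subgroup G)) : G) ^ p ^ (e - 1) := by
      have := congrArg (fun t : ↥(S : Subgroup G) => (t : G)) hi
      simpa [hφ] using this
    have h2 := congrArg (fun t : R => ((t : ↥(S : Subgroup G)) : G)) h1
    simp only [hφ, Subgroup.coe_mul, Subgroup.coe_inv, SubmonoidClass.coe_pow] at h2
    rw [h2, ← hbm', conj_pow, ← hi', ((hMx m hm).zpow_right i).eq, mul_inv_cancel_right,
      mul_inv_cancel]
  · intro a ha b hb
    refine ⟨⁅(⟨a, ha⟩ : ↥(S : Subgroup G)), ⟨b, hb⟩⁆, hL1K (commutator_mem_commutator (mem_top _) (mem_top _)), ?_⟩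
    simp [commutatorElement_def]

theorem structure_mem :
    (Cfsg.IsExtraspecial p (S : Subgroup G) ∧ Nat.card (S : Subgroup G) = p ^ 3 ∧
      ∀ y ∈ (S : Subgroup G), y ^ p = 1) ∨
    (p = 3 ∧ ∃ k : ℕ, 2 ≤ k ∧ Nat.card (S : Subgroup G) = 3 ^ (2 * k + 1) ∧
      ∃ _ : Group.IsNilpotent (S : Subgroup G),
        Group.nilpotencyClass (S : Subgroup G) = 2 * k) := by
  set x' : (S : Subgroup G) := ⟨x, h.mem⟩ with hx'
  have hPp : IsPGroup p (S : Subgroup G) := S.isPGroup'
  have hxo : orderOf x' = p := by rw [← orderOf_coe]; exact h.ord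
  obtain ⟨n, hn⟩ := hPp.exists_card_eq
  have hrankP : Cfsg.PRankLE p 2 (S : Subgroup G) := rank_subgroup h.rank _
  -- a cyclic subgroup of index at most `p`
  have hlarge : ∀ a : (S : Subgroup G), n ≤ 3 → (zpowers a).index ∣ p → False := by
    intro a hn3 hidx
    apply h.not_metacyclic
    rcases (Nat.dvd_prime hp.out).1 hidx with h1 | h1
    · haveI : (zpowers a).Normal := by rw [index_eq_one.1 h1]; infer_instance
      refine ⟨zpowers a, inferInstance, inferInstance, ?_⟩
      haveI : Subsingleton ((S : Subgroup G) ⧸ zpowers a) :=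
        (Nat.card_eq_one_iff_unique.1 ((Subgroup.index_eq_card _).symm.trans h1)).1
      exact isCyclic_of_subsingleton
    · obtain ⟨hNn, -⟩ := Nilp.index_coatom_of_isPGroup hPp (isCoatom_of_prime_index h1)
      haveI := hNn
      exact ⟨zpowers a, inferInstance, inferInstance,
        isCyclic_of_prime_card (p := p) ((Subgroup.index_eq_card _).symm.trans h1)⟩
  have hidx : ∀ a : (S : Subgroup G), ∀ j, orderOf a = p ^ j → n ≤ j + 1 →
      (zpowers a).index ∣ p := by
    intro a j hj hle
    have h1 := (zpowers a).card_mul_index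
    rw [Nat.card_zpowers, hj, hn] at h1
    obtain ⟨i, -, hi⟩ := (Nat.dvd_prime_pow hp.out).1 (Dvd.intro_left _ h1)
    rw [hi, ← pow_add] at h1
    have := Nat.pow_right_injective hp.out.two_le h1
    rw [hi]
    calc p ^ i ∣ p ^ 1 := Nat.pow_dvd_pow p (by omega)
      _ = p := pow_one p
  have hn3 : 3 ≤ n := by
    by_contra hlt
    exact hlarge x' (by omega) (hidx x' 1 (by rw [hxo, pow_one]) (by omega))
  rcases eq_or_lt_of_le hn3 with h3 | hn4
  · left
    subst h3
    have hexp : ∀ a : (S : Subgroup G), a ^ p = 1 := by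
      intro a
      obtain ⟨j, hj⟩ := IsPGroup.iff_orderOf.1 hPp a
      by_contra ha
      refine hlarge a le_rfl (hidx a j hj ?_)
      by_contra hlt
      apply ha
      rw [← orderOf_dvd_iff_pow_eq_one, hj]
      exact (Nat.pow_dvd_pow p (show j ≤ 1 by omega)).trans (pow_one p).dvd
    have hne : ∃ a b : (S : Subgroup G), a * b ≠ b * a := by
      by_contra hc
      simp only [not_exists, not_not] at hc
      have h1 := hrankP ⊤ ⟨⟨fun a b => Subtype.ext (hc a b)⟩⟩ (fun a _ => hexp a)
      rw [Subgroup.card_top, hn] at h1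
      have := (Nat.pow_le_pow_iff_right hp.out.one_lt).1 h1
      omega
    exact ⟨ExtraCube.isExtraspecial hn hne hexp, hn, fun y hy =>
      congrArg Subtype.val (hexp ⟨y, hy⟩)⟩
  · have hgenG : ∀ X Y z : (S : Subgroup G), closure ({X, Y, z} : Set (S : Subgroup G)) = ⊤ →
        closure ({(X : G), (Y : G), (z : G)} : Set G) = (S : Subgroup G) := by
      intro X Y z hgen
      have h1 := congrArg (Subgroup.map (S : Subgroup G).subtype) hgen
      rw [MonoidHom.map_closure, ← MonoidHom.range_eq_map, range_subtype] at h1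
      simpa [Set.image_insert_eq] using h1
    obtain hm | ⟨-, X, Y, z, hgen, hXp, hYp, hzo, hXz, hYz, hXY⟩ |
      ⟨-, s, X, Y, z, hs, hgen, hXp, hYp, hzo, hYz, hXY, hXz⟩ | ⟨hp3, -, hmc⟩ :=
      Cfsg.Agent.S3888.result h.odd n hn hrankP
    · exact absurd hm h.not_metacyclic
    · exfalso
      refine h.gens_false hn (by omega) (hgenG X Y z hgen) (congrArg Subtype.val hXp)
        (congrArg Subtype.val hYp) (congrArg Subtype.val hzo) (congrArg Subtype.val hYz) (s := 1)
        hp.out.not_dvd_one ?_ (Or.inl ?_)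
      · rw [one_mul]
        exact congrArg Subtype.val hXY
      · have h1 : X⁻¹ * z * X = z := by rw [mul_assoc, ← hXz, inv_mul_cancel_left]
        exact congrArg Subtype.val h1
    · exfalso
      refine h.gens_false hn (by omega) (hgenG X Y z hgen) (congrArg Subtype.val hXp)
        (congrArg Subtype.val hYp) (congrArg Subtype.val hzo) (congrArg Subtype.val hYz) (s := s)
        (fun hd => ?_) (congrArg Subtype.val hXY) (Or.inr (congrArg Subtype.val hXz))
      rcases hs with rfl | hs
      · exact hp.out.not_dvd_one hd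
      · apply hs
        rw [(ZMod.natCast_eq_zero_iff s p).2 hd]
        exact IsSquare.zero
    · haveI := hPp.isNilpotent
      have hcl : Group.nilpotencyClass (S : Subgroup G) = n - 1 := by
        refine le_antisymm (PLemmas.nilpotencyClass_le hPp hn (by omega)) ?_
        by_contra hlt
        exact hmc (Subgroup.lowerCentralSeries_eq_bot_iff_nilpotencyClass_le.2 (by omega))
      obtain ⟨k, hk⟩ := h.maxClass_odd hp3 hn (by omega) hcl
      refine Or.inr ⟨hp3, k, by omega, ?_, inferInstance, ?_⟩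
      · rw [hn, hk, hp3]
      · rw [hcl]; omega

end Hyp

end Cfsg.Agent.Lib.IsolatedOdd
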